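import Mathlib
import Cfsg.Prelude.Def_OddOrderLocal
import Cfsg.Agent.S3888
import Cfsg.Agent.S3919
import Cfsg.Agent.Lib.MaximalClass
import Cfsg.Agent.Lib.PolynomialSequence
import Cfsg.Agent.Lib.PGroup.CyclicMax
import Cfsg.Agent.Lib.Fusion.EssentialSmall.Cube

/-! Facts on the two families of three-generator `p`-groups of rank two. -/

set_option autoImplicit false

namespace CfsgLib.IsoRankTwo

open scoped commutatorElement
open Subgroup

universe u

variable {T : Type u} [Group T] [Finite T] {p : ℕ} [hp : Fact p.Prime]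

/-- The relations of the second family: `z` central. -/
structure FamTwo (p n : ℕ) (x y z : T) : Prop where
  hn : 3 ≤ n
  card : Nat.card T = p ^ n
  gen : closure ({x, y, z} : Set T) = ⊤
  hxp : x ^ p = 1
  hyp : y ^ p = 1
  hzp : z ^ p ^ (n - 2) = 1
  xz : x * z = z * x
  yz : y * z = z * y
  xy : x⁻¹ * y * x = y * z ^ p ^ (n - 3)

/-- The relations of the third family. -/
structure FamThree (p n s : ℕ) (x y z : T) : Prop where
  hn : 4 ≤ n
  hs : ¬ p ∣ s
  card : Nat.card T = p ^ n
  gen : closure ({x, y, z} : Set T) = ⊤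
  hxp : x ^ p = 1
  hyp : y ^ p = 1
  hzp : z ^ p ^ (n - 2) = 1
  yz : y * z = z * y
  xy : x⁻¹ * y * x = y * z ^ (s * p ^ (n - 3))
  xz : x⁻¹ * z * x = y * z

theorem nonsquare_not_dvd {s : ℕ} (h : s = 1 ∨ ¬ IsSquare (s : ZMod p)) : ¬ p ∣ s := by
  intro hd
  rcases h with rfl | h
  · exact hp.out.not_dvd_one hd
  · exact h (by rw [(ZMod.natCast_eq_zero_iff s p).mpr hd]; exact IsSquare.zero)

theorem mem_center_of_gen {S : Set T} (hS : closure S = ⊤) {c : T} (h : ∀ a ∈ S, a * c = c * a) :
    c ∈ center T := by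
  rw [mem_center_iff]
  intro g
  have hg : g ∈ centralizer ({c} : Set T) := by
    have hle : closure S ≤ centralizer ({c} : Set T) :=
      (closure_le _).mpr fun a ha => mem_centralizer_singleton_iff.mpr (h a ha)
    exact hle (hS.symm ▸ mem_top g)
  exact mem_centralizer_singleton_iff.mp hg

/-- A normal subgroup modulo which the generators commute contains the derived subgroup. -/
theorem commutator_le_of_gen {S : Set T} (hS : closure S = ⊤) (M : Subgroup T) [M.Normal]
    (h : ∀ a ∈ S, ∀ b ∈ S, ⁅a, b⁆ ∈ M) : commutator T ≤ M := by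
  have hQ : ∀ u v : T ⧸ M, u * v = v * u := by
    have hgen : closure (QuotientGroup.mk' M '' S) = ⊤ := by
      rw [← MonoidHom.map_closure, hS, ← MonoidHom.range_eq_map, MonoidHom.range_eq_top.mpr (QuotientGroup.mk'_surjective M)]
    have : ∀ b ∈ QuotientGroup.mk' M '' S, b ∈ center (T ⧸ M) := by
      rintro _ ⟨b, hb, rfl⟩
      refine mem_center_of_gen hgen ?_
      rintro _ ⟨a, ha, rfl⟩
      rw [← commutatorElement_eq_one_iff_mul_comm, ← map_commutatorElement]
      exact (QuotientGroup.eq_one_iff _).mpr (h a ha b hb)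
    have htop : center (T ⧸ M) = ⊤ := top_le_iff.mp (hgen ▸ (closure_le _).mpr this)
    intro u v
    exact (mem_center_iff.mp (htop ▸ mem_top u) v).symm
  rw [commutator_def, commutator_le]
  intro a _ b _
  rw [← QuotientGroup.eq_one_iff, ← QuotientGroup.mk'_apply, map_commutatorElement,
    commutatorElement_eq_one_iff_mul_comm]
  exact hQ _ _

omit hp in
theorem card_sup_le (H K : Subgroup T) [K.Normal] : Nat.card ↥(H ⊔ K) ≤ Nat.card H * Nat.card K := by
  rw [← Nat.card_prod]
  refine Nat.card_le_card_of_surjective (fun a : H × K => (⟨(a.1 : T) * a.2, mul_mem_sup a.1.2 a.2.2⟩ : ↥(H ⊔ K))) ?_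
  rintro ⟨g, hg⟩
  obtain ⟨a, ha, b, hb, rfl⟩ := mem_sup_of_normal_right.mp hg
  exact ⟨(⟨a, ha⟩, ⟨b, hb⟩), rfl⟩

theorem card_zpowers_le {a : T} {k : ℕ} (h : a ^ p ^ k = 1) : Nat.card (zpowers a) ≤ p ^ k := by
  rw [Nat.card_zpowers]
  exact Nat.le_of_dvd (pow_pos hp.out.pos k) (orderOf_dvd_of_pow_eq_one h)

section Two
variable {n : ℕ} {x y z : T} (F : FamTwo p n x y z)
include F

theorem FamTwo.z_center : z ∈ center T :=
  mem_center_of_gen F.gen (by rintro a (rfl | rfl | rfl) <;> first | exact F.xz | exact F.yz | rfl)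

theorem FamTwo.w_center : z ^ p ^ (n - 3) ∈ center T := pow_mem F.z_center _

theorem FamTwo.comm_xy : ⁅x⁻¹, y⁆ = z ^ p ^ (n - 3) := by
  have hc : y * z ^ p ^ (n - 3) = z ^ p ^ (n - 3) * y := mem_center_iff.mp F.w_center y
  rw [commutatorElement_def, inv_inv, F.xy, hc, mul_inv_cancel_right]

theorem FamTwo.comm_le : commutator T ≤ zpowers (z ^ p ^ (n - 3)) := by
  haveI : (zpowers (z ^ p ^ (n - 3))).Normal := ⟨fun w hw g => by
    have hwc : w ∈ center T := zpowers_le.mpr F.w_center hw
    rwa [mem_center_iff.mp hwc g, mul_inv_cancel_right]⟩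
  have hz := F.z_center
  refine commutator_le_of_gen (S := ({x⁻¹, y, z} : Set T)) ?_ _ ?_
  · refine top_le_iff.mp (F.gen ▸ (closure_le _).mpr ?_)
    rintro a (rfl | rfl | rfl)
    · exact inv_inv a ▸ inv_mem (subset_closure (by simp))
    · exact subset_closure (by simp)
    · exact subset_closure (by simp)
  have hzc : ∀ a : T, ⁅z, a⁆ = 1 ∧ ⁅a, z⁆ = 1 := fun a =>
    ⟨commutatorElement_eq_one_iff_mul_comm.mpr (mem_center_iff.mp hz a).symm,
      commutatorElement_eq_one_iff_mul_comm.mpr (mem_center_iff.mp hz a)⟩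
  rintro a (rfl | rfl | rfl) b (rfl | rfl | rfl) <;>
    first
    | (rw [commutatorElement_self]; exact one_mem _)
    | (rw [(hzc _).1]; exact one_mem _)
    | (rw [(hzc _).2]; exact one_mem _)
    | (rw [F.comm_xy]; exact mem_zpowers _)
    | (rw [← commutatorElement_inv, F.comm_xy]; exact inv_mem (mem_zpowers _))

theorem FamTwo.orderOf_z : orderOf z = p ^ (n - 2) := by
  refine Nat.dvd_antisymm (orderOf_dvd_of_pow_eq_one F.hzp) ?_
  have hwZ : zpowers (z ^ p ^ (n - 3)) ≤ zpowers z := zpowers_le.mpr (pow_mem (mem_zpowers z) _)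
  haveI hZn : (zpowers z).Normal := ⟨fun w hw g => by
    have hwc : w ∈ center T := zpowers_le.mpr F.z_center hw
    rwa [mem_center_iff.mp hwc g, mul_inv_cancel_right]⟩
  haveI hYn : (zpowers y ⊔ zpowers z).Normal :=
    Normal.of_commutator_le (G := T) (F.comm_le.trans (hwZ.trans le_sup_right))
  have hxp' : x ^ p ^ 1 = 1 := by rw [pow_one]; exact F.hxp
  have hyp' : y ^ p ^ 1 = 1 := by rw [pow_one]; exact F.hyp
  have htop : zpowers x ⊔ (zpowers y ⊔ zpowers z) = ⊤ := by
    refine top_le_iff.mp (F.gen ▸ (closure_le _).mpr ?_)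
    rintro a (rfl | rfl | rfl)
    · exact mem_sup_left (mem_zpowers _)
    · exact mem_sup_right (mem_sup_left (mem_zpowers _))
    · exact mem_sup_right (mem_sup_right (mem_zpowers _))
  have h1 : p ^ n ≤ p ^ 1 * (p ^ 1 * orderOf z) := by
    rw [← F.card, ← Nat.card_congr (topEquiv (G := T)).toEquiv, ← htop, ← Nat.card_zpowers z]
    exact (card_sup_le _ _).trans (Nat.mul_le_mul (card_zpowers_le hxp')
      ((card_sup_le _ _).trans (Nat.mul_le_mul_right _ (card_zpowers_le hyp'))))
  obtain ⟨j, hj, hj'⟩ := (Nat.dvd_prime_pow hp.out).mp (orderOf_dvd_of_pow_eq_one F.hzp)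
  rw [hj', ← pow_add, ← pow_add] at h1
  have := (Nat.pow_le_pow_iff_right hp.out.one_lt).mp h1
  rw [hj', show j = n - 2 by omega]

theorem FamTwo.w_ne : z ^ p ^ (n - 3) ≠ 1 := by
  intro h
  have h2 := orderOf_dvd_of_pow_eq_one h
  rw [F.orderOf_z, Nat.pow_dvd_pow_iff_le_right hp.out.one_lt] at h2
  have := F.hn
  omega

theorem FamTwo.lcs_two : (⊤ : Subgroup T).lowerCentralSeries 2 = ⊥ := by
  rw [Subgroup.lowerCentralSeries_succ, top_lowerCentralSeries_one, eq_bot_iff, commutator_le]
  intro a ha b _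
  rw [mem_bot, commutatorElement_eq_one_iff_mul_comm]
  exact (mem_center_iff.mp (zpowers_le.mpr F.w_center (F.comm_le ha)) b).symm

theorem FamTwo.center_eq : center T = zpowers z := by
  refine le_antisymm ?_ (zpowers_le.mpr F.z_center)
  intro c hc
  haveI hZn : (zpowers z).Normal := ⟨fun w hw g => by
    have hwc : w ∈ center T := zpowers_le.mpr F.z_center hw
    rwa [mem_center_iff.mp hwc g, mul_inv_cancel_right]⟩
  haveI hYn : (zpowers y ⊔ zpowers z).Normal :=
    Normal.of_commutator_le (G := T) (F.comm_le.trans ((zpowers_le.mpr (pow_mem (mem_zpowers z) _)).trans le_sup_right))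
  have hmem : c ∈ zpowers x ⊔ (zpowers y ⊔ zpowers z) := by
    refine (closure_le _).mpr ?_ (F.gen.symm ▸ mem_top c : c ∈ closure ({x, y, z} : Set T))
    rintro a (rfl | rfl | rfl)
    · exact mem_sup_left (mem_zpowers _)
    · exact mem_sup_right (mem_sup_left (mem_zpowers _))
    · exact mem_sup_right (mem_sup_right (mem_zpowers _))
  obtain ⟨a, ha, b, hb, rfl⟩ := mem_sup_of_normal_right.mp hmem
  obtain ⟨b1, hb1, b2, hb2, rfl⟩ := mem_sup_of_normal_right.mp hb
  obtain ⟨i, rfl⟩ := ha
  obtain ⟨j, rfl⟩ := hb1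
  dsimp only at hc ⊢
  have hb2c : b2 ∈ center T := zpowers_le.mpr F.z_center hb2
  have hab : x ^ i * y ^ j ∈ center T := by
    have := mul_mem hc (inv_mem hb2c)
    rwa [← mul_assoc, mul_inv_cancel_right] at this
  -- `x⁻¹ y x = y w`
  have hxy : y * x = x * y * z ^ p ^ (n - 3) := by
    rw [mul_assoc, ← F.xy]; group
  have hwp : (z ^ p ^ (n - 3)) ^ p = 1 := by
    rw [← pow_mul, ← pow_succ, show n - 3 + 1 = n - 2 by have := F.hn; omega, F.hzp]
  have hd : ∀ m : ℤ, (z ^ p ^ (n - 3)) ^ m = 1 → (p : ℤ) ∣ m := fun m hm => by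
    have := orderOf_dvd_iff_zpow_eq_one.mpr hm
    rwa [orderOf_eq_prime hwp F.w_ne] at this
  set w := z ^ p ^ (n - 3) with hw
  have hwc : ∀ g : T, Commute g w := fun g => mem_center_iff.mp F.w_center g
  -- conjugating `y` by `x` and `x` by `y`
  have c1 : ∀ m : ℤ, SemiconjBy y (x ^ m) ((x * w) ^ m) := fun m =>
    (show SemiconjBy y x (x * w) by
      show y * x = x * w * y
      rw [hxy, mul_assoc, (hwc y).eq, ← mul_assoc]).zpow_right m
  have hxy' : x ^ i * y ^ j * y = y * (x ^ i * y ^ j) := (mem_center_iff.mp hab y).symm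
  have hi : (p : ℤ) ∣ i := by
    have h1 := c1 i
    rw [SemiconjBy, (hwc x).mul_zpow] at h1
    rw [← mul_assoc, h1, mul_assoc _ y (y ^ j), ((Commute.refl y).zpow_right j).eq, ← mul_assoc] at hxy'
    refine hd i (mul_eq_left.mp (mul_right_cancel (mul_right_cancel hxy')).symm)
  obtain ⟨i', rfl⟩ := hi
  have hx0 : x ^ ((p : ℤ) * i') = 1 := by rw [zpow_mul, zpow_natCast, F.hxp, one_zpow]
  rw [hx0, one_mul] at hab ⊢
  have hj : (p : ℤ) ∣ j := by
    refine hd j ?_
    have h2 : SemiconjBy x (y ^ j * w ^ j) (y ^ j) := by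
      have h := (show SemiconjBy x (y * w) y by
        show x * (y * w) = y * x
        rw [hxy, mul_assoc]).zpow_right j
      rwa [(hwc y).mul_zpow] at h
    rw [SemiconjBy, ← mul_assoc, mem_center_iff.mp hab x, mul_assoc] at h2
    exact mul_eq_left.mp (mul_left_cancel h2)
  obtain ⟨j', rfl⟩ := hj
  rw [zpow_mul, zpow_natCast, F.hyp, one_zpow, one_mul]
  exact hb2

end Two

section Three
variable {n s : ℕ} {x y z : T} (F : FamThree p n s x y z)
include F

theorem FamThree.zp_conj : x⁻¹ * z ^ p * x = z ^ p := by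
  have h : (x⁻¹ * z * x) ^ p = x⁻¹ * z ^ p * x := by
    have := conj_pow (a := x⁻¹) (b := z) (i := p)
    rwa [inv_inv] at this
  rw [← h, F.xz, (Commute.mul_pow F.yz p), F.hyp, one_mul]

theorem FamThree.zp_center : z ^ p ∈ center T := by
  refine mem_center_of_gen F.gen ?_
  rintro a (rfl | rfl | rfl)
  · calc a * z ^ p = a * (a⁻¹ * z ^ p * a) := by rw [F.zp_conj]
      _ = z ^ p * a := by group
  · exact (Commute.pow_right F.yz p).eq
  · exact ((Commute.refl a).pow_right p).eq

theorem FamThree.w_eq : z ^ p ^ (n - 3) = (z ^ p) ^ p ^ (n - 4) := by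
  rw [← pow_mul, ← pow_succ', show n - 4 + 1 = n - 3 by have := F.hn; omega]

theorem FamThree.w_center : z ^ p ^ (n - 3) ∈ center T := by
  rw [F.w_eq]; exact pow_mem F.zp_center _

/-- The subgroup generated by `y` and `z ^ p`. -/
theorem FamThree.sub_normal : (closure ({y, z ^ p} : Set T)).Normal := by
  set M := closure ({y, z ^ p} : Set T) with hM
  have hy : y ∈ M := subset_closure (by simp)
  have hz : z ^ p ∈ M := subset_closure (by simp)
  have hzs : z ^ (s * p ^ (n - 3)) ∈ M := by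
    rw [show s * p ^ (n - 3) = p * (s * p ^ (n - 4)) by
      rw [show n - 3 = n - 4 + 1 by have := F.hn; omega, pow_succ]; ring, pow_mul]
    exact pow_mem hz _
  have hc : ∀ a ∈ ({x⁻¹, y, z} : Set T), ∀ m ∈ M, a * m * a⁻¹ ∈ M := by
    intro a ha m hm
    have hzm : a * z ^ p * a⁻¹ ∈ M := by rwa [mem_center_iff.mp F.zp_center a, mul_inv_cancel_right]
    have hym : a * y * a⁻¹ ∈ M := by
      rcases ha with rfl | rfl | rfl
      · rw [inv_inv, F.xy]; exact mul_mem hy hzs
      · rwa [mul_inv_cancel_right]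
      · rwa [← F.yz, mul_inv_cancel_right]
    have hle : M ≤ M.comap (MulAut.conj a).toMonoidHom := (closure_le _).mpr (by
      rintro b (rfl | rfl)
      · exact hym
      · exact hzm)
    exact hle hm
  rw [← normalizer_eq_top_iff, eq_top_iff, ← F.gen, closure_le]
  have hn : ∀ a ∈ ({x⁻¹, y, z} : Set T), a ∈ normalizer (M : Set T) := by
    intro a ha
    have heq : M.map (MulAut.conj a).toMonoidHom = M := by
      refine eq_of_le_of_card_ge ?_ (card_map_of_injective (MulAut.conj a).injective).ge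
      rintro _ ⟨m, hm, rfl⟩
      exact hc a ha m hm
    rw [mem_normalizer_iff]
    intro m
    refine ⟨fun hm => hc a ha m hm, fun hm => ?_⟩
    rw [← heq, mem_map] at hm
    obtain ⟨k, hk, hk'⟩ := hm
    exact (MulAut.conj a).injective hk' ▸ hk
  rintro a (rfl | rfl | rfl)
  · exact inv_inv a ▸ inv_mem (hn _ (by simp))
  · exact hn _ (by simp)
  · exact hn _ (by simp)

theorem FamThree.comm_le : commutator T ≤ closure ({y, z ^ p} : Set T) := by
  haveI := F.sub_normal
  have hy : y ∈ closure ({y, z ^ p} : Set T) := subset_closure (by simp)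
  refine commutator_le_of_gen (S := ({x⁻¹, y, z} : Set T)) ?_ _ ?_
  · refine top_le_iff.mp (F.gen ▸ (closure_le _).mpr ?_)
    rintro a (rfl | rfl | rfl)
    · exact inv_inv a ▸ inv_mem (subset_closure (by simp))
    · exact subset_closure (by simp)
    · exact subset_closure (by simp)
  have h1 : ⁅x⁻¹, y⁆ ∈ closure ({y, z ^ p} : Set T) := by
    rw [commutatorElement_def, inv_inv]
    exact mul_mem (by simpa only [inv_inv] using F.sub_normal.conj_mem y hy x⁻¹) (inv_mem hy)
  have h2 : ⁅x⁻¹, z⁆ ∈ closure ({y, z ^ p} : Set T) := by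
    rw [commutatorElement_def, inv_inv, F.xz, mul_inv_cancel_right]
    exact hy
  have h3 : ⁅y, z⁆ = 1 := commutatorElement_eq_one_iff_mul_comm.mpr F.yz
  rintro a (rfl | rfl | rfl) b (rfl | rfl | rfl) <;>
    first
    | (rw [commutatorElement_self]; exact one_mem _)
    | exact h1
    | exact h2
    | (rw [← commutatorElement_inv]; exact inv_mem h1)
    | (rw [← commutatorElement_inv]; exact inv_mem h2)
    | (rw [h3]; exact one_mem _)
    | (rw [← commutatorElement_inv, h3]; exact inv_mem (one_mem _))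

theorem FamThree.lcs_two : (⊤ : Subgroup T).lowerCentralSeries 2 ≤ zpowers (z ^ p ^ (n - 3)) := by
  set W := zpowers (z ^ p ^ (n - 3)) with hW
  haveI : W.Normal := ⟨fun w hw g => by
    have hwc : w ∈ center T := zpowers_le.mpr F.w_center hw
    rwa [mem_center_iff.mp hwc g, mul_inv_cancel_right]⟩
  rw [Subgroup.lowerCentralSeries_succ, top_lowerCentralSeries_one, commutator_le]
  intro a ha b _
  have hgen : closure (QuotientGroup.mk' W '' {x, y, z}) = ⊤ := by
    rw [← MonoidHom.map_closure, F.gen, ← MonoidHom.range_eq_map, MonoidHom.range_eq_top.mpr (QuotientGroup.mk'_surjective W)]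
  have hxy : ⁅x⁻¹, y⁆ ∈ W := by
    rw [commutatorElement_def, inv_inv, F.xy, mul_comm s, pow_mul,
      mem_center_iff.mp (pow_mem F.w_center s) y, mul_inv_cancel_right]
    exact pow_mem (mem_zpowers _) s
  have hyc : QuotientGroup.mk' W y ∈ center (T ⧸ W) := by
    refine mem_center_of_gen hgen ?_
    rintro _ ⟨c, (rfl | rfl | rfl), rfl⟩
    · have h : Commute (QuotientGroup.mk' W c⁻¹) (QuotientGroup.mk' W y) := by
        rw [← commutatorElement_eq_one_iff_commute, ← map_commutatorElement]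
        exact (QuotientGroup.eq_one_iff _).mpr hxy
      rw [map_inv] at h
      exact (inv_inv (QuotientGroup.mk' W c) ▸ h.inv_left).eq
    · rfl
    · rw [← map_mul, ← map_mul, F.yz]
  have hzc : QuotientGroup.mk' W (z ^ p) ∈ center (T ⧸ W) := by
    rw [mem_center_iff]
    intro q
    obtain ⟨t, rfl⟩ := QuotientGroup.mk'_surjective W q
    rw [← map_mul, ← map_mul, mem_center_iff.mp F.zp_center t]
  have hle : closure ({y, z ^ p} : Set T) ≤ (center (T ⧸ W)).comap (QuotientGroup.mk' W) := (closure_le _).mpr (by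
    rintro c (rfl | rfl)
    · exact hyc
    · exact hzc)
  rw [← QuotientGroup.eq_one_iff, ← QuotientGroup.mk'_apply, map_commutatorElement,
    commutatorElement_eq_one_iff_mul_comm]
  exact (mem_center_iff.mp (hle (F.comm_le ha)) _).symm

theorem FamThree.mid_normal : (closure ({y, z} : Set T)).Normal := by
  refine Normal.of_commutator_le (G := T) (F.comm_le.trans ((closure_le _).mpr ?_))
  rintro a (rfl | rfl)
  · exact subset_closure (by simp)
  · exact pow_mem (subset_closure (by simp)) _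

theorem FamThree.orderOf_z : orderOf z = p ^ (n - 2) := by
  refine Nat.dvd_antisymm (orderOf_dvd_of_pow_eq_one F.hzp) ?_
  haveI := F.mid_normal
  have hxp' : x ^ p ^ 1 = 1 := by rw [pow_one]; exact F.hxp
  have hyp' : y ^ p ^ 1 = 1 := by rw [pow_one]; exact F.hyp
  have htop : zpowers x ⊔ closure ({y, z} : Set T) = ⊤ := by
    refine top_le_iff.mp (F.gen ▸ (closure_le _).mpr ?_)
    rintro a (rfl | rfl | rfl)
    · exact mem_sup_left (mem_zpowers _)
    · exact mem_sup_right (subset_closure (by simp))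
    · exact mem_sup_right (subset_closure (by simp))
  have hA : Nat.card ↥(closure ({y, z} : Set T)) ≤ p ^ 1 * orderOf z := by
    have hsurj : Function.Surjective (fun a : zpowers y × zpowers z => (⟨(a.1 : T) * a.2,
        mul_mem (zpowers_le.mpr (subset_closure (by simp)) a.1.2) (zpowers_le.mpr (subset_closure (by simp)) a.2.2)⟩ :
          ↥(closure ({y, z} : Set T)))) := by
      rintro ⟨g, hg⟩
      suffices h : ∃ i j : ℤ, y ^ i * z ^ j = g by
        obtain ⟨i, j, h⟩ := h
        exact ⟨(⟨y ^ i, ⟨i, rfl⟩⟩, ⟨z ^ j, ⟨j, rfl⟩⟩), Subtype.ext h⟩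
      have hc : ∀ i j : ℤ, Commute (y ^ i) (z ^ j) := fun i j => (Commute.zpow_zpow (F.yz : Commute y z) i j)
      induction hg using closure_induction with
      | mem a ha =>
        rcases ha with rfl | rfl
        · exact ⟨1, 0, by simp⟩
        · exact ⟨0, 1, by simp⟩
      | one => exact ⟨0, 0, by simp⟩
      | mul a b _ _ ha hb =>
        obtain ⟨i, j, rfl⟩ := ha
        obtain ⟨k, l, rfl⟩ := hb
        refine ⟨i + k, j + l, ?_⟩
        rw [zpow_add, zpow_add, mul_assoc, ← mul_assoc (y ^ k), (hc k j).eq]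
        group
      | inv a _ ha =>
        obtain ⟨i, j, rfl⟩ := ha
        exact ⟨-i, -j, by rw [mul_inv_rev, zpow_neg, zpow_neg, ((hc i j).inv_inv).eq]⟩
    have := Nat.card_le_card_of_surjective _ hsurj
    rw [Nat.card_prod, Nat.card_zpowers z] at this
    exact this.trans (Nat.mul_le_mul_right _ (card_zpowers_le hyp'))
  have h1 : p ^ n ≤ p ^ 1 * (p ^ 1 * orderOf z) := by
    rw [← F.card, ← Nat.card_congr (topEquiv (G := T)).toEquiv, ← htop]
    exact (card_sup_le _ _).trans (Nat.mul_le_mul (card_zpowers_le hxp') hA)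
  obtain ⟨j, hj, hj'⟩ := (Nat.dvd_prime_pow hp.out).mp (orderOf_dvd_of_pow_eq_one F.hzp)
  rw [hj', ← pow_add, ← pow_add] at h1
  have := (Nat.pow_le_pow_iff_right hp.out.one_lt).mp h1
  rw [hj', show j = n - 2 by omega]

theorem FamThree.w_ne : z ^ p ^ (n - 3) ≠ 1 := by
  intro h
  have h2 := orderOf_dvd_of_pow_eq_one h
  rw [F.orderOf_z, Nat.pow_dvd_pow_iff_le_right hp.out.one_lt] at h2
  have := F.hn
  omega

theorem FamThree.w_pow : (z ^ p ^ (n - 3)) ^ p = 1 := by
  rw [← pow_mul, ← pow_succ, show n - 3 + 1 = n - 2 by have := F.hn; omega, F.hzp]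

theorem FamThree.lcs_two_ne : (⊤ : Subgroup T).lowerCentralSeries 2 ≠ ⊥ := by
  intro h
  have hy : y ∈ (⊤ : Subgroup T).lowerCentralSeries 1 := by
    rw [top_lowerCentralSeries_one, commutator_def]
    have := commutator_mem_commutator (mem_top x⁻¹) (mem_top z)
    rwa [commutatorElement_def, inv_inv, F.xz, mul_inv_cancel_right] at this
  have h2 : ⁅y, x⁻¹⁆ ∈ (⊤ : Subgroup T).lowerCentralSeries 2 := by
    rw [Subgroup.lowerCentralSeries_succ]
    exact commutator_mem_commutator hy (mem_top _)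
  rw [h, mem_bot, commutatorElement_eq_one_iff_mul_comm] at h2
  have h3 : y * z ^ (s * p ^ (n - 3)) = y := by
    rw [← F.xy, ← h2, inv_mul_cancel_right]
  rw [mul_eq_left, mul_comm, pow_mul, ← orderOf_dvd_iff_pow_eq_one, orderOf_eq_prime F.w_pow F.w_ne] at h3
  exact F.hs h3

end Three

end CfsgLib.IsoRankTwo
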