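import Mathlib
import Cfsg.Agent.Lib.PolynomialSequence
import Cfsg.Agent.Lib.MaximalClass

/-! An automorphism inverting the abelianisation acts by alternating signs on the lower central layers. -/

set_option autoImplicit false

namespace CfsgLib.IsoRankTwo

open scoped commutatorElement
open Subgroup

universe u

variable {T : Type u} [Group T]

theorem lcs_sign (φ : MulAut T) (hφ : ∀ t, φ t * t ∈ (⊤ : Subgroup T).lowerCentralSeries 1) :
    ∀ i : ℕ, ∀ c ∈ (⊤ : Subgroup T).lowerCentralSeries i,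
      φ c * c ^ (-((-1 : ℤ) ^ (i + 1))) ∈ (⊤ : Subgroup T).lowerCentralSeries (i + 1) := by
  intro i
  induction i with
  | zero =>
    intro c _
    simpa using hφ c
  | succ i ih =>
    set e : ℤ := (-1) ^ (i + 1) with he
    have he' : (-1 : ℤ) ^ (i + 1 + 1) = -e := by rw [he, pow_succ]; ring
    rw [he', neg_neg]
    set L := (⊤ : Subgroup T).lowerCentralSeries (i + 1) with hL
    set L2 := (⊤ : Subgroup T).lowerCentralSeries (i + 1 + 1) with hL2
    set q := QuotientGroup.mk' L2 with hq
    -- the layer is central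
    have hcen : ∀ c ∈ L, ∀ t : T, q c * q t = q t * q c := by
      intro c hc t
      rw [← commutatorElement_eq_one_iff_mul_comm, ← map_commutatorElement]
      refine (QuotientGroup.eq_one_iff _).mpr ?_
      rw [hL2, Subgroup.lowerCentralSeries_succ]
      exact commutator_mem_commutator hc (mem_top t)
    have hcen1 : ∀ g ∈ (⊤ : Subgroup T).lowerCentralSeries i, ∀ t ∈ (⊤ : Subgroup T).lowerCentralSeries 1,
        q g * q t = q t * q g := by
      intro g hg t ht
      rw [← commutatorElement_eq_one_iff_mul_comm, ← map_commutatorElement]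
      exact (QuotientGroup.eq_one_iff _).mpr
        (CfsgLib.PolySeq.lcs_commutator_le 1 i (commutator_mem_commutator hg ht))
    let K : Subgroup T :=
      { carrier := {c | c ∈ L ∧ q (φ c) * q c ^ e = 1}
        one_mem' := ⟨one_mem _, by simp⟩
        mul_mem' := fun {a b} ha hb => ⟨mul_mem ha.1 hb.1, by
          have hab : Commute (q a) (q b) := hcen a ha.1 b
          rw [map_mul, map_mul, map_mul, hab.mul_zpow,
            show q (φ a) * q (φ b) * (q a ^ e * q b ^ e) = q (φ a) * (q (φ b) * q a ^ e) * q b ^ e by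
              simp only [mul_assoc],
            ← (Commute.zpow_left (hcen a ha.1 (φ b)) e).eq, ← mul_assoc, ha.2, one_mul, hb.2]⟩
        inv_mem' := fun {a} ha => ⟨inv_mem ha.1, by
          rw [map_inv, map_inv, map_inv, inv_zpow, eq_inv_of_mul_eq_one_left ha.2, inv_inv, mul_inv_cancel]⟩ }
    have hle : L ≤ K := by
      rw [hL, Subgroup.lowerCentralSeries_succ, commutator_le]
      intro g hg t _
      have hgt : ⁅g, t⁆ ∈ L := by
        rw [hL, Subgroup.lowerCentralSeries_succ]
        exact commutator_mem_commutator hg (mem_top t)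
      refine ⟨hgt, ?_⟩
      obtain ⟨m, hm, hg'⟩ : ∃ m ∈ L, φ g = m * g ^ e :=
        ⟨φ g * g ^ (-e), ih g hg, by rw [mul_assoc, ← zpow_add, neg_add_cancel, zpow_zero, mul_one]⟩
      obtain ⟨m', hm2, ht'⟩ : ∃ m' ∈ (⊤ : Subgroup T).lowerCentralSeries 1, φ t = m' * t⁻¹ :=
        ⟨φ t * t, hφ t, (mul_inv_cancel_right _ _).symm⟩
      have hM : ∀ Y, q m * q Y = q Y * q m := hcen m hm
      have hM' : q (g ^ e) * q m' = q m' * q (g ^ e) := hcen1 _ (zpow_mem hg e) m' hm2
      have hc := hcen _ hgt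
      rw [map_commutatorElement φ, hg', ht', map_commutatorElement q, map_mul q, map_mul q]
      have e1 : ⁅q m * q (g ^ e), q m' * q t⁻¹⁆ = q m' * ⁅q (g ^ e), q t⁻¹⁆ * (q m')⁻¹ := by
        have hM2 : Commute (q m) (q (g ^ e) * (q m' * q t⁻¹) * (q (g ^ e))⁻¹ * (q m' * q t⁻¹)⁻¹) := by
          have := hM (g ^ e * (m' * t⁻¹) * (g ^ e)⁻¹ * (m' * t⁻¹)⁻¹)
          simp only [map_mul, map_inv] at this
          exact this
        have hM3 : Commute (q m) (q m' * q t⁻¹) := by
          have := hM (m' * t⁻¹)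
          rwa [map_mul] at this
        calc ⁅q m * q (g ^ e), q m' * q t⁻¹⁆
            = q m * (q (g ^ e) * (q m' * q t⁻¹) * (q (g ^ e))⁻¹ * (q m' * q t⁻¹)⁻¹) *
                ((q m' * q t⁻¹) * (q m)⁻¹ * (q m' * q t⁻¹)⁻¹) := by rw [commutatorElement_def]; group
          _ = (q (g ^ e) * (q m' * q t⁻¹) * (q (g ^ e))⁻¹ * (q m' * q t⁻¹)⁻¹) * q m * (q m)⁻¹ := by
              rw [hM2.eq, ← hM3.inv_left.eq, mul_inv_cancel_right]
          _ = q (g ^ e) * (q m' * q t⁻¹) * (q (g ^ e))⁻¹ * (q m' * q t⁻¹)⁻¹ := mul_inv_cancel_right _ _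
          _ = (q (g ^ e) * q m') * q t⁻¹ * (q (g ^ e))⁻¹ * (q t⁻¹)⁻¹ * (q m')⁻¹ := by group
          _ = q m' * ⁅q (g ^ e), q t⁻¹⁆ * (q m')⁻¹ := by rw [hM', commutatorElement_def]; group
      have hcz : ∀ k : ℤ, ∀ Y, q ⁅g, t⁆ ^ k * q Y = q Y * q ⁅g, t⁆ ^ k := fun k Y => Commute.zpow_left (hc Y) k
      have e2 : ⁅q (g ^ e), q t⁻¹⁆ = q ⁅g, t⁆ ^ (-e) := by
        rcases Int.natAbs_eq_iff.mp (show e.natAbs = 1 by rw [he, Int.natAbs_pow]; simp) with h | h <;> rw [h]
        · rw [Nat.cast_one, zpow_one, zpow_neg_one, map_inv, map_commutatorElement]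
          calc ⁅q g, (q t)⁻¹⁆ = (q t)⁻¹ * ⁅q g, q t⁆⁻¹ * q t := by rw [commutatorElement_def, commutatorElement_def]; group
            _ = ⁅q g, q t⁆⁻¹ := by
              have h1 : Commute ⁅q g, q t⁆ (q t) := by rw [← map_commutatorElement]; exact hc t
              rw [mul_assoc, h1.inv_left.eq, inv_mul_cancel_left]
        · rw [Nat.cast_one, zpow_neg_one, neg_neg, zpow_one, map_inv, map_inv, map_commutatorElement]
          have h1 : Commute ⁅q g, q t⁆ (q t * q g) := by
            rw [← map_commutatorElement, ← map_mul]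
            exact hc (t * g)
          calc ⁅(q g)⁻¹, (q t)⁻¹⁆ = (q t * q g)⁻¹ * ⁅q g, q t⁆ * (q t * q g) := by
                rw [commutatorElement_def, commutatorElement_def]; group
            _ = ⁅q g, q t⁆ := by rw [mul_assoc, h1.eq, inv_mul_cancel_left]
      rw [e1, e2, ← hcz (-e) m', mul_inv_cancel_right, ← zpow_add, neg_add_cancel, zpow_zero]
    intro c hc
    have h := (hle hc).2
    rw [← map_zpow, ← map_mul] at h
    exact (QuotientGroup.eq_one_iff _).mp h

/-- The centre of a group of maximal class is the last nontrivial term. -/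
theorem center_le_lcs [Finite T] {p : ℕ} [hp : Fact p.Prime] {n : ℕ} (hn : 3 ≤ n) (hT : Nat.card T = p ^ n)
    (hc : Group.nilpotencyClass T = n - 1) : center T ≤ (⊤ : Subgroup T).lowerCentralSeries (n - 2) := by
  haveI := (IsPGroup.of_card hT).isNilpotent
  obtain ⟨r, -, hri⟩ := (Nat.dvd_prime_pow hp.out).mp (hT ▸ (center T).index_dvd_card)
  have hr2 : 2 ≤ r := by
    by_contra h
    obtain ⟨a, b, hab⟩ := CfsgLib.MaximalClass.exists_noncomm hn hT hc
    haveI : IsCyclic (T ⧸ center T) := by
      rcases (show r = 0 ∨ r = 1 by omega) with rfl | rfl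
      · haveI : Subsingleton (T ⧸ center T) := (Nat.card_eq_one_iff_unique.mp (by
          rw [← index_eq_card, hri, pow_zero])).1
        exact isCyclic_of_subsingleton
      · exact isCyclic_of_prime_card (p := p) (by rw [← index_eq_card, hri, pow_one])
    exact hab (commutative_of_cyclic_center_quotient (QuotientGroup.mk' (center T)) (QuotientGroup.ker_mk' _).le a b)
  have heq := CfsgLib.MaximalClass.normal_eq_lcs hn hT hc (center T) hr2 hri
  have hbot : (⊤ : Subgroup T).lowerCentralSeries (r - 1 + 1) = ⊥ := by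
    rw [Subgroup.lowerCentralSeries_succ, eq_bot_iff, commutator_le]
    intro a ha b _
    rw [mem_bot, commutatorElement_eq_one_iff_mul_comm]
    exact (mem_center_iff.mp (heq.symm ▸ ha : a ∈ center T) b).symm
  have := Subgroup.lowerCentralSeries_eq_bot_iff_nilpotencyClass_le.mp hbot
  rw [heq]
  exact Subgroup.lowerCentralSeries_antitone _ (by omega)

end CfsgLib.IsoRankTwo
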