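import Mathlib

/-! Fixed-point-free groups of automorphisms of the plane over the field of three elements. -/

set_option autoImplicit false

namespace CfsgLib.IsoRankTwo

universe u

variable {V : Type u} [CommGroup V] [Finite V]

/-- A group of automorphisms of order prime to three of `C₃ × C₃` without common nontrivial fixed points
contains the inversion. -/
theorem exists_inversion (hV : Nat.card V = 9) (hexp : ∀ v : V, v ^ 3 = 1) (H : Subgroup (MulAut V))
    (hH : (Nat.card H).Coprime 3) (hfix : ∀ v : V, (∀ h ∈ H, h v = v) → v = 1) :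
    ∃ h ∈ H, ∀ v : V, h v = v⁻¹ := by
  classical
  haveI : Finite (MulAut V) := Finite.of_injective (fun f => (f : V → V)) DFunLike.coe_injective
  have hinv : ∀ v : V, v⁻¹ = v * v := fun v => inv_eq_of_mul_eq_one_right (by
    have := hexp v
    rwa [pow_succ, pow_two, mul_comm] at this)
  -- only the prime two divides the order
  have h2 : IsPGroup 2 H := by
    refine IsPGroup.of_card (n := (Nat.card H).primeFactorsList.length)
      (Nat.eq_prime_pow_of_unique_prime_dvd Nat.card_pos.ne' fun {q} hq hqd => ?_)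
    by_contra hq2
    haveI := Fact.mk hq
    obtain ⟨g, hg⟩ := exists_prime_orderOf_dvd_card' (G := H) q hqd
    have hq3 : q ≠ 3 := fun h => by
      subst h
      have := Nat.dvd_gcd hqd (dvd_refl 3)
      rw [hH] at this
      norm_num at this
    set g' : MulAut V := (g : MulAut V) with hg'
    have hgo : orderOf g' = q := by rw [hg', Subgroup.orderOf_coe, hg]
    have hpg : IsPGroup q (Subgroup.zpowers g') := IsPGroup.of_card (n := 1) (by rw [Nat.card_zpowers, hgo, pow_one])
    have hmod := hpg.card_modEq_card_fixedPoints V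
    let F : Subgroup V :=
      { carrier := {v | g' v = v}
        one_mem' := map_one g'
        mul_mem' := fun {a b} ha hb => show g' (a * b) = a * b by rw [map_mul, ha, hb]
        inv_mem' := fun {a} ha => show g' a⁻¹ = a⁻¹ by rw [map_inv, ha] }
    have hF : Nat.card (MulAction.fixedPoints (Subgroup.zpowers g') V) = Nat.card F := by
      refine Nat.card_congr (Equiv.subtypeEquivRight fun v => ⟨fun h => h ⟨g', Subgroup.mem_zpowers _⟩, fun h => ?_⟩)
      rintro ⟨k, hk⟩
      have hle : Subgroup.zpowers g' ≤ MulAction.stabilizer (MulAut V) v := Subgroup.zpowers_le.mpr h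
      exact hle hk
    have hne : F ≠ ⊤ := fun h => hq.ne_one (by
      rw [← hgo, orderOf_eq_one_iff]
      exact MulEquiv.ext fun v => (show g' v = v from (h.symm ▸ Subgroup.mem_top v : v ∈ F)))
    rw [hF, hV] at hmod
    have hd : Nat.card F ∣ 9 := hV ▸ F.card_subgroup_dvd_card
    have hlt : Nat.card F ≠ 9 := fun h => hne (Subgroup.eq_top_of_card_eq _ (h.trans hV.symm))
    have hle := Nat.le_of_dvd (by norm_num) hd
    interval_cases hc : Nat.card F <;> norm_num at hd
    · have := (Nat.modEq_iff_dvd' (by norm_num)).mp hmod.symm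
      exact hq2 ((Nat.prime_dvd_prime_iff_eq hq Nat.prime_two).mp (hq.dvd_of_dvd_pow (show q ∣ 2 ^ 3 from this)))
    · have := (Nat.modEq_iff_dvd' (by norm_num)).mp hmod.symm
      have h6 : q ∣ 2 * 3 := this
      rcases hq.dvd_mul.mp h6 with h | h
      · exact hq2 ((Nat.prime_dvd_prime_iff_eq hq Nat.prime_two).mp h)
      · exact hq3 ((Nat.prime_dvd_prime_iff_eq hq Nat.prime_three).mp h)
    · exact hlt rfl
  haveI : Nontrivial V := Finite.one_lt_card_iff_nontrivial.mp (by rw [hV]; norm_num)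
  have hHne : Nontrivial H := by
    by_contra h
    rw [not_nontrivial_iff_subsingleton] at h
    obtain ⟨v, hv⟩ := exists_ne (1 : V)
    refine hv (hfix v fun g hg => ?_)
    have : (⟨g, hg⟩ : H) = 1 := Subsingleton.elim _ _
    rw [show g = 1 from congrArg Subtype.val this]
    rfl
  haveI := hHne
  haveI : Fact (Nat.Prime 2) := ⟨Nat.prime_two⟩
  haveI := h2.center_nontrivial
  obtain ⟨k, hk⟩ := IsPGroup.iff_card.mp (h2.to_subgroup (Subgroup.center H))
  have hk0 : k ≠ 0 := fun e => by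
    have := Finite.one_lt_card (α := Subgroup.center H)
    rw [hk, e, pow_zero] at this
    exact lt_irrefl _ this
  obtain ⟨h0, hh0⟩ := exists_prime_orderOf_dvd_card' (G := Subgroup.center H) 2 (hk ▸ dvd_pow_self 2 hk0)
  set h : MulAut V := ((h0 : H) : MulAut V) with hh
  have hho : orderOf h = 2 := by rw [hh, Subgroup.orderOf_coe, Subgroup.orderOf_coe, hh0]
  have hhH : h ∈ H := (h0 : H).2
  have hh2 : ∀ v : V, h (h v) = v := fun v => by
    have : h * h = 1 := by rw [← pow_two, ← hho, pow_orderOf_eq_one]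
    exact DFunLike.congr_fun this v
  have hcomm : ∀ g ∈ H, ∀ v : V, g (h v) = h (g v) := fun g hg v => by
    have h1 := Subgroup.mem_center_iff.mp h0.2 ⟨g, hg⟩
    exact DFunLike.congr_fun (congrArg Subtype.val h1) v
  let F : Subgroup V :=
    { carrier := {v | h v = v}
      one_mem' := map_one h
      mul_mem' := fun {a b} ha hb => show h (a * b) = a * b by rw [map_mul, ha, hb]
      inv_mem' := fun {a} ha => show h a⁻¹ = a⁻¹ by rw [map_inv, ha] }
  let I : Subgroup V :=
    { carrier := {v | h v = v⁻¹}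
      one_mem' := by simp
      mul_mem' := fun {a b} ha hb => show h (a * b) = (a * b)⁻¹ by rw [map_mul, ha, hb, mul_inv]
      inv_mem' := fun {a} ha => show h a⁻¹ = a⁻¹⁻¹ by rw [map_inv, ha] }
  have hdec : ∀ v : V, ∃ f ∈ F, ∃ i ∈ I, f * i = v := fun v => by
    refine ⟨(v * h v)⁻¹, ?_, (v * (h v)⁻¹)⁻¹, ?_, ?_⟩
    · refine inv_mem (show h (v * h v) = v * h v from ?_)
      rw [map_mul, hh2, mul_comm]
    · refine inv_mem (show h (v * (h v)⁻¹) = (v * (h v)⁻¹)⁻¹ from ?_)
      rw [map_mul, map_inv, hh2, mul_inv, inv_inv, mul_comm]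
    · rw [← mul_inv, show v * h v * (v * (h v)⁻¹) = v * v * (h v * (h v)⁻¹) by ac_rfl, mul_inv_cancel,
        mul_one, ← hinv, inv_inv]
  by_cases hF : F = ⊥
  · refine ⟨h, hhH, fun v => ?_⟩
    obtain ⟨f, hf, i, hi, rfl⟩ := hdec v
    rw [hF, Subgroup.mem_bot] at hf
    rw [hf, one_mul]
    exact hi
  -- both eigenspaces are lines
  have hI : I ≠ ⊥ := fun hI => by
    have : h = 1 := MulEquiv.ext fun v => by
      obtain ⟨f, hf, i, hi, rfl⟩ := hdec v
      rw [hI, Subgroup.mem_bot] at hi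
      rw [hi, mul_one]
      exact hf
    rw [this, orderOf_one] at hho
    norm_num at hho
  have hdisj : ∀ v, v ∈ F → v ∈ I → v = 1 := fun v hf hi => by
    have h1 : v = v⁻¹ := hf.symm.trans hi
    rw [hinv] at h1
    exact mul_eq_left.mp h1.symm
  have hle : Nat.card F * Nat.card I ≤ 9 := by
    rw [← Nat.card_prod, ← hV]
    refine Nat.card_le_card_of_injective (fun a : F × I => (a.1 : V) * a.2) ?_
    rintro ⟨a, b⟩ ⟨c, d⟩ hab
    have h1 : (c : V)⁻¹ * a = d * (b : V)⁻¹ := by
      rw [eq_mul_inv_iff_mul_eq, mul_assoc, inv_mul_eq_iff_eq_mul]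
      exact hab
    have h2 := hdisj _ (mul_mem (inv_mem c.2) a.2) (h1 ▸ mul_mem d.2 (inv_mem b.2))
    have hac : (a : V) = c := (inv_mul_eq_one.mp h2).symm
    have hab' : (a : V) * b = c * d := hab
    rw [hac] at hab'
    exact Prod.ext (Subtype.ext hac) (Subtype.ext (mul_left_cancel hab'))
  have h3 : ∀ K : Subgroup V, K ≠ ⊥ → 3 ≤ Nat.card K := fun K hK => by
    obtain ⟨v, hv, hv1⟩ := K.bot_or_exists_ne_one.resolve_left hK
    have h := Subgroup.card_le_of_le (Subgroup.zpowers_le.mpr hv)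
    haveI : Fact (Nat.Prime 3) := ⟨Nat.prime_three⟩
    rwa [Nat.card_zpowers, orderOf_eq_prime (hexp v) hv1] at h
  have hFc : Nat.card F = 3 := by
    have := h3 F hF; have := h3 I hI; nlinarith
  have hIc : Nat.card I = 3 := by
    have := h3 F hF; have := h3 I hI; nlinarith
  -- every element of `H` acts by a sign on each line
  have hsign : ∀ K : Subgroup V, Nat.card K = 3 → ∀ g : MulAut V, (∀ v ∈ K, g v ∈ K) →
      (∀ v ∈ K, g v = v) ∨ (∀ v ∈ K, g v = v⁻¹) := fun K hK g hg => by
    haveI : Fact (Nat.Prime 3) := ⟨Nat.prime_three⟩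
    obtain ⟨a, ha, ha1⟩ := K.bot_or_exists_ne_one.resolve_left (fun hb => by rw [hb, Subgroup.card_bot] at hK; norm_num at hK)
    have hao : orderOf a = 3 := orderOf_eq_prime (hexp a) ha1
    have hKa : Subgroup.zpowers a = K := Subgroup.eq_of_le_of_card_ge (Subgroup.zpowers_le.mpr ha)
      (by rw [hK, Nat.card_zpowers, hao])
    obtain ⟨k, hk⟩ := Subgroup.mem_zpowers_iff.mp (hKa.symm ▸ hg a ha)
    rw [zpow_eq_zpow_emod' k (hexp a)] at hk
    have hlt : k % 3 < 3 := Int.emod_lt_of_pos k (by norm_num)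
    have hge : 0 ≤ k % 3 := Int.emod_nonneg k (by norm_num)
    obtain hk0 | hk1 | hk2 : k % 3 = 0 ∨ k % 3 = 1 ∨ k % 3 = 2 := by omega
    · rw [show ((3 : ℕ) : ℤ) = 3 from rfl, hk0, zpow_zero] at hk
      exact absurd (g.injective (hk.symm.trans (map_one g).symm)) ha1
    · refine Or.inl fun v hv => ?_
      rw [show ((3 : ℕ) : ℤ) = 3 from rfl, hk1, zpow_one] at hk
      obtain ⟨j, rfl⟩ := Subgroup.mem_zpowers_iff.mp (hKa.symm ▸ hv)
      rw [map_zpow, ← hk]
    · refine Or.inr fun v hv => ?_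
      rw [show ((3 : ℕ) : ℤ) = 3 from rfl, hk2] at hk
      obtain ⟨j, rfl⟩ := Subgroup.mem_zpowers_iff.mp (hKa.symm ▸ hv)
      rw [map_zpow, ← hk, show (2 : ℤ) = 1 + 1 from rfl, zpow_add, zpow_one, ← hinv, inv_zpow]
  obtain ⟨f0, hf0, hf1⟩ := F.bot_or_exists_ne_one.resolve_left hF
  obtain ⟨g, hg, hgf⟩ : ∃ g ∈ H, g f0 ≠ f0 := by
    by_contra hall
    push Not at hall
    exact hf1 (hfix f0 hall)
  have hgF : ∀ v ∈ F, g v = v⁻¹ := (hsign F hFc g fun v hv => show h (g v) = g v by
    rw [← hcomm g hg, hv]).resolve_left fun hh => hgf (hh f0 hf0)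
  rcases hsign I hIc g (fun v hv => show h (g v) = (g v)⁻¹ by rw [← hcomm g hg, hv, map_inv]) with h1 | h1
  · refine ⟨g * h, H.mul_mem hg hhH, fun v => ?_⟩
    obtain ⟨f, hf, i, hi, rfl⟩ := hdec v
    rw [MulAut.mul_apply, map_mul, map_mul, show h f = f from hf, show h i = i⁻¹ from hi, map_inv,
      hgF f hf, h1 i hi, mul_inv]
  · refine ⟨g, hg, fun v => ?_⟩
    obtain ⟨f, hf, i, hi, rfl⟩ := hdec v
    rw [map_mul, hgF f hf, h1 i hi, mul_inv]

end CfsgLib.IsoRankTwo
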