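import Mathlib
import Cfsg.Agent.Lib.IsolatedRankTwo.Basic
import Cfsg.Agent.Lib.Elementary
import Cfsg.Agent.S2792

/-!
For odd `p`, iterated commutators of length `p` in a `p`-group of rank at most two lie in the Frattini
subgroup of every maximal subgroup.
-/

set_option autoImplicit false

namespace CfsgLib.IsoRankTwo

open scoped commutatorElement
open Subgroup

universe u

variable {T : Type u} [Group T] [Finite T] {p : ℕ} [hp : Fact p.Prime]

omit hp in
theorem prankLE_subgroup {k : ℕ} (h : Cfsg.PRankLE p k T) (H : Subgroup T) : Cfsg.PRankLE p k H := by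
  intro A hA hAp
  have h1 : IsMulCommutative ↥(A.map H.subtype) := by
    refine ⟨⟨?_⟩⟩
    rintro ⟨_, a, ha, rfl⟩ ⟨_, b, hb, rfl⟩
    exact Subtype.ext (congrArg H.subtype (congrArg Subtype.val (hA.is_comm.comm ⟨a, ha⟩ ⟨b, hb⟩)))
  have h2 : ∀ a ∈ A.map H.subtype, a ^ p = 1 := by
    rintro _ ⟨a, ha, rfl⟩
    rw [← map_pow, hAp a ha, map_one]
  have := h _ h1 h2
  rwa [card_map_of_injective H.subtype_injective] at this

/-- The four cases of the classification, in a form convenient here. -/
theorem cases_rankTwo (hp2 : p ≠ 2) {n : ℕ} (hn : Nat.card T = p ^ n) (hr : Cfsg.PRankLE p 2 T) :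
    Cfsg.IsMetacyclic T ∨ (∃ x y z : T, FamTwo p n x y z) ∨ (∃ (s : ℕ) (x y z : T), FamThree p n s x y z) ∨
    (p = 3 ∧ 2 ≤ n ∧ Group.nilpotencyClass T = n - 1) := by
  rcases Cfsg.Agent.S3888.result hp2 n hn hr with h | ⟨hn3, x, y, z, hg, hx, hy, hz, hxz, hyz, hxy⟩ |
    ⟨hn4, s, x, y, z, hs, hg, hx, hy, hz, hyz, hxy, hxz⟩ | ⟨h3, hn2, hl⟩
  · exact Or.inl h
  · exact Or.inr (Or.inl ⟨x, y, z, ⟨hn3, hn, hg, hx, hy, hz, hxz, hyz, hxy⟩⟩)
  · exact Or.inr (Or.inr (Or.inl ⟨s, x, y, z, ⟨hn4, nonsquare_not_dvd hs, hn, hg, hx, hy, hz, hyz, hxy, hxz⟩⟩))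
  · refine Or.inr (Or.inr (Or.inr ⟨h3, hn2, ?_⟩))
    haveI := (IsPGroup.of_card hn).isNilpotent
    have h1 := Cfsg.Agent.S3919.class_le n hn hn2
    have h2 : ¬ Group.nilpotencyClass T ≤ n - 2 := fun h =>
      hl (Subgroup.lowerCentralSeries_eq_bot_iff_nilpotencyClass_le.mpr h)
    omega

/-- A two-generated `p`-group has Frattini index at most `p ^ 2`. -/
theorem frattini_index_le {H : Type u} [Group H] [Finite H] (hH : IsPGroup p H) (a b : H)
    (hgen : closure ({a, b} : Set H) = ⊤) : (frattini H).index ≤ p ^ 2 := by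
  have hcomm : ∀ u v : H ⧸ frattini H, u * v = v * u := by
    intro u v
    obtain ⟨u, rfl⟩ := QuotientGroup.mk'_surjective (frattini H) u
    obtain ⟨v, rfl⟩ := QuotientGroup.mk'_surjective (frattini H) v
    rw [← commutatorElement_eq_one_iff_mul_comm, ← map_commutatorElement]
    exact (QuotientGroup.eq_one_iff _).mpr
      (CfsgLib.commutator_le_frattini_pGroup hH (commutator_mem_commutator (mem_top u) (mem_top v)))
  have hexp : ∀ u : H ⧸ frattini H, u ^ p = 1 := by
    intro u
    obtain ⟨u, rfl⟩ := QuotientGroup.mk'_surjective (frattini H) u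
    rw [← map_pow]
    exact (QuotientGroup.eq_one_iff _).mpr (CfsgLib.pow_mem_frattini_pGroup hH u)
  set A := QuotientGroup.mk' (frattini H) a with hA
  set B := QuotientGroup.mk' (frattini H) b with hB
  have htop : zpowers A ⊔ zpowers B = ⊤ := by
    rw [eq_top_iff, ← MonoidHom.range_eq_top.mpr (QuotientGroup.mk'_surjective (frattini H)),
      MonoidHom.range_eq_map, ← hgen, MonoidHom.map_closure, closure_le]
    rintro _ ⟨c, (rfl | rfl), rfl⟩
    · exact mem_sup_left (mem_zpowers _)
    · exact mem_sup_right (mem_zpowers _)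
  haveI : (zpowers B).Normal := ⟨fun w hw g => by rwa [hcomm g w, mul_inv_cancel_right]⟩
  have h1 := card_sup_le (zpowers A) (zpowers B)
  have hA' : Nat.card (zpowers A) ≤ p ^ 1 := card_zpowers_le (by rw [pow_one]; exact hexp A)
  have hB' : Nat.card (zpowers B) ≤ p ^ 1 := card_zpowers_le (by rw [pow_one]; exact hexp B)
  rw [htop, Nat.card_congr (topEquiv (G := H ⧸ frattini H)).toEquiv] at h1
  rw [index_eq_card, pow_two]
  exact h1.trans (Nat.mul_le_mul (hA'.trans (by rw [pow_one])) (hB'.trans (by rw [pow_one])))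

/-- In a rank-two `p`-group the Frattini index is at most `p ^ 2` unless it is of the second family. -/
theorem frattini_index_cases (hp2 : p ≠ 2) {n : ℕ} (hn : Nat.card T = p ^ n) (hr : Cfsg.PRankLE p 2 T) :
    (frattini T).index ≤ p ^ 2 ∨ (4 ≤ n ∧ ∃ x y z : T, FamTwo p n x y z) := by
  have hT : IsPGroup p T := IsPGroup.of_card hn
  rcases cases_rankTwo hp2 hn hr with ⟨N, hNn, hNc, hQc⟩ | ⟨x, y, z, F⟩ | ⟨s, x, y, z, F⟩ | ⟨-, hn2, hc⟩
  · haveI := hNn
    obtain ⟨a, ha⟩ := hNc.exists_generator
    obtain ⟨q, hq⟩ := hQc.exists_generator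
    obtain ⟨b, rfl⟩ := QuotientGroup.mk'_surjective N q
    refine Or.inl (frattini_index_le hT (a : T) b (eq_top_iff.mpr fun g _ => ?_))
    obtain ⟨j, hj⟩ := mem_zpowers_iff.mp (hq (QuotientGroup.mk' N g))
    rw [← map_zpow] at hj
    have hm : (b ^ j)⁻¹ * g ∈ N := QuotientGroup.eq.mp hj
    obtain ⟨i, hi⟩ := mem_zpowers_iff.mp (ha ⟨_, hm⟩)
    have hi' : (a : T) ^ i = (b ^ j)⁻¹ * g := by simpa using congrArg Subtype.val hi
    rw [show g = b ^ j * (a : T) ^ i by rw [hi', mul_inv_cancel_left]]
    exact mul_mem (zpow_mem (subset_closure (by simp)) j) (zpow_mem (subset_closure (by simp)) i)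
  · by_cases h4 : 4 ≤ n
    · exact Or.inr ⟨h4, x, y, z, F⟩
    have hn3 : n = 3 := by have := F.hn; omega
    refine Or.inl (frattini_index_le hT x y (top_le_iff.mp (F.gen ▸ (closure_le _).mpr ?_)))
    rintro a (rfl | rfl | rfl)
    · exact subset_closure (by simp)
    · exact subset_closure (by simp)
    · have hw : y⁻¹ * (x⁻¹ * y * x) = a := by
        rw [F.xy, hn3, Nat.sub_self, pow_zero, pow_one, inv_mul_cancel_left]
      have hx : x ∈ closure ({x, y} : Set T) := subset_closure (by simp)
      have hy : y ∈ closure ({x, y} : Set T) := subset_closure (by simp)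
      exact hw ▸ mul_mem (inv_mem hy) (mul_mem (mul_mem (inv_mem hx) hy) hx)
  · refine Or.inl (frattini_index_le hT x z (top_le_iff.mp (F.gen ▸ (closure_le _).mpr ?_)))
    rintro a (rfl | rfl | rfl)
    · exact subset_closure (by simp)
    · have hx : x ∈ closure ({x, z} : Set T) := subset_closure (by simp)
      have hz : z ∈ closure ({x, z} : Set T) := subset_closure (by simp)
      rw [show a = x⁻¹ * z * x * z⁻¹ by rw [F.xz, mul_inv_cancel_right]]
      exact mul_mem (mul_mem (mul_mem (inv_mem hx) hz) hx) (inv_mem hz)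
    · exact subset_closure (by simp)
  · refine Or.inl ?_
    rcases Nat.lt_or_ge n 3 with h | h
    · refine (Nat.le_of_dvd Nat.card_pos (frattini T).index_dvd_card).trans ?_
      rw [hn]
      exact Nat.pow_le_pow_right hp.out.pos (by omega)
    · rw [← CfsgLib.MaximalClass.index_commutator h hn hc]
      exact Nat.le_of_dvd (Nat.pos_of_ne_zero index_ne_zero_of_finite)
        (index_dvd_of_le (CfsgLib.commutator_le_frattini_pGroup hT))

/-- In a 3-group of maximal class and rank two, `γ₃` lies in the Frattini subgroup of every maximal subgroup. -/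
theorem maxClass_lcs_le {n : ℕ} (hp2 : p ≠ 2) (hn3 : 4 ≤ n) (hn : Nat.card T = p ^ n)
    (hc : Group.nilpotencyClass T = n - 1) (hr : Cfsg.PRankLE p 2 T) (W : Subgroup T) (hW : IsCoatom W) :
    (⊤ : Subgroup T).lowerCentralSeries 2 ≤ (frattini W).map W.subtype := by
  have hT : IsPGroup p T := IsPGroup.of_card hn
  obtain ⟨hWn, hWi⟩ := CfsgLib.index_coatom_pGroup hT hW
  haveI := hWn
  have hWc : Nat.card W = p ^ (n - 1) := by
    have h := W.card_mul_index
    rw [hWi, hn, show n = n - 1 + 1 by omega, pow_succ] at h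
    exact Nat.eq_of_mul_eq_mul_right hp.out.pos h
  have hWp : IsPGroup p W := hT.to_subgroup W
  set N := (frattini W).map W.subtype with hN
  haveI hNn : N.Normal := normalizer_eq_top_iff.mp (top_le_iff.mp
    ((normalizer_eq_top_iff.mpr hWn).ge.trans
      (CfsgLib.le_normalizer_map_characteristic (A := normalizer (W : Set T)) le_rfl (frattini W)).1))
  have hNi : N.index = (frattini W).index * p := by
    rw [hN, index_map_subtype, hWi]
  rcases frattini_index_cases hp2 hWc (prankLE_subgroup hr W) with hle | ⟨h4, x, y, z, F⟩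
  · obtain ⟨r, hr', hri⟩ := (Nat.dvd_prime_pow hp.out).mp (hn ▸ N.index_dvd_card)
    have hne : (frattini W).index ≠ 1 := by
      rw [Ne, index_eq_one]
      intro h
      haveI : Nontrivial W := Finite.one_lt_card_iff_nontrivial.mp (by
        rw [hWc]; exact Nat.one_lt_pow (by omega) hp.out.one_lt)
      rcases IsCoatomic.eq_top_or_exists_le_coatom (⊥ : Subgroup W) with h0 | ⟨M, hM, -⟩
      · exact bot_ne_top h0
      · exact hM.1 (top_le_iff.mp (h ▸ frattini_le_coatom hM))
    have hrle : r ≤ 3 := by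
      rw [← Nat.pow_le_pow_iff_right hp.out.one_lt, ← hri, hNi, show 3 = 2 + 1 from rfl, pow_succ]
      exact Nat.mul_le_mul_right p hle
    have hr2 : 2 ≤ r := by
      by_contra hlt
      have h1 : N.index ≤ p ^ 1 := hri ▸ Nat.pow_le_pow_right hp.out.pos (by omega)
      rw [hNi, pow_one] at h1
      have h0 : (frattini W).index ≠ 0 := index_ne_zero_of_finite
      have h2 : (frattini W).index * p ≥ 2 * p := Nat.mul_le_mul_right p (by omega)
      have := hp.out.pos
      omega
    rw [CfsgLib.MaximalClass.normal_eq_lcs (by omega) hn hc N hr2 hri]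
    exact Subgroup.lowerCentralSeries_antitone _ (by omega)
  · exfalso
    -- the centre of `W` would be a large cyclic normal subgroup
    set Z := (center W).map W.subtype with hZ
    haveI hZn : Z.Normal := normalizer_eq_top_iff.mp (top_le_iff.mp
      ((normalizer_eq_top_iff.mpr hWn).ge.trans
        (CfsgLib.le_normalizer_map_characteristic (A := normalizer (W : Set T)) le_rfl (center W)).1))
    have hZi : Z.index = p ^ 3 := by
      have h1 : Nat.card Z = p ^ (n - 1 - 2) := by
        rw [hZ, card_map_of_injective W.subtype_injective, F.center_eq, Nat.card_zpowers, F.orderOf_z]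
      have h := Z.card_mul_index
      rw [h1, hn] at h
      refine Nat.eq_of_mul_eq_mul_left (pow_pos hp.out.pos (n - 1 - 2)) ?_
      rw [h, ← pow_add, show n - 1 - 2 + 3 = n by omega]
    have hZcyc : IsCyclic Z := by
      haveI : IsCyclic (center W) := by rw [F.center_eq]; infer_instance
      exact isCyclic_of_surjective _ ((center W).equivMapOfInjective W.subtype W.subtype_injective).surjective
    have hncyc : ¬ IsCyclic (⊤ : Subgroup T) := fun h => by
      obtain ⟨a, b, hab⟩ := CfsgLib.MaximalClass.exists_noncomm (by omega) hn hc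
      haveI : IsCyclic T := isCyclic_of_surjective _ topEquiv.surjective
      obtain ⟨g, hg⟩ := IsCyclic.exists_generator (α := T)
      obtain ⟨i, rfl⟩ := hg a
      obtain ⟨j, rfl⟩ := hg b
      exact hab ((Commute.refl g).zpow_zpow i j).eq
    obtain ⟨A, -, hAn, hA, hAc⟩ := CfsgLib.CyclicMax.exists_normal_sq hT hp2 ⊤ hncyc
    haveI := hAn
    have hAi : A.index = p ^ (n - 2) := by
      have h := A.card_mul_index
      rw [hAc, hn, show n = 2 + (n - 2) by omega, pow_add] at h
      exact Nat.eq_of_mul_eq_mul_left (pow_pos hp.out.pos _) h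
    have hAZ : A ≤ Z := by
      rw [CfsgLib.MaximalClass.normal_eq_lcs (by omega) hn hc A (r := n - 2) (by omega) hAi,
        CfsgLib.MaximalClass.normal_eq_lcs (by omega) hn hc Z (r := 3) (by omega) hZi]
      exact Subgroup.lowerCentralSeries_antitone _ (by omega)
    haveI := hZcyc
    haveI : IsCyclic A := isCyclic_of_surjective _ (subgroupOfEquivOfLe hAZ).surjective
    obtain ⟨g, hg⟩ := IsCyclic.exists_generator (α := A)
    have hle : Nat.card A ≤ p := by
      rw [← Nat.card_congr (topEquiv (G := A)).toEquiv, ← (eq_top_iff.mpr fun a _ => hg a : zpowers g = ⊤),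
        Nat.card_zpowers]
      exact Nat.le_of_dvd hp.out.pos (orderOf_dvd_of_pow_eq_one (Subtype.ext (hA.2 g g.2)))
    rw [hAc, pow_two] at hle
    nlinarith [hp.out.two_le]

/-- For every maximal subgroup `W`, the `p`-th term of the lower central series is in `Φ(W)`. -/
theorem lcs_le_frattini (hp2 : p ≠ 2) (hT : IsPGroup p T) (hr : Cfsg.PRankLE p 2 T) (W : Subgroup T)
    (hW : IsCoatom W) : (⊤ : Subgroup T).lowerCentralSeries (p - 1) ≤ (frattini W).map W.subtype := by
  obtain ⟨n, hn⟩ := IsPGroup.iff_card.mp hT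
  obtain ⟨hWn, hWi⟩ := CfsgLib.index_coatom_pGroup hT hW
  have hWp : IsPGroup p W := hT.to_subgroup W
  have hp3 : 3 ≤ p := by have := hp.out.two_le; omega
  refine (Subgroup.lowerCentralSeries_antitone _ (show 2 ≤ p - 1 by omega)).trans ?_
  have hpow : ∀ v ∈ frattini T, v ^ p ∈ (frattini W).map W.subtype := fun v hv =>
    ⟨(⟨v, frattini_le_coatom hW hv⟩ : W) ^ p, CfsgLib.pow_mem_frattini_pGroup hWp _, rfl⟩
  rcases cases_rankTwo hp2 hn hr with ⟨N, hNn, hNc, hQc⟩ | ⟨x, y, z, F⟩ | ⟨s, x, y, z, F⟩ | ⟨h3, hn2, hc⟩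
  · haveI := hNn
    have hle : commutator T ≤ N := by
      rw [commutator_def, commutator_le]
      intro a _ b _
      rw [← QuotientGroup.eq_one_iff, ← QuotientGroup.mk'_apply, map_commutatorElement,
        commutatorElement_eq_one_iff_mul_comm]
      obtain ⟨g, hg⟩ := hQc.exists_generator
      obtain ⟨i, hi⟩ := hg (QuotientGroup.mk' N a)
      obtain ⟨j, hj⟩ := hg (QuotientGroup.mk' N b)
      rw [← hi, ← hj]
      exact ((Commute.refl g).zpow_zpow i j).eq
    haveI : IsCyclic (commutator T) :=
      haveI := hNc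
      isCyclic_of_surjective _ (subgroupOfEquivOfLe hle).surjective
    obtain ⟨c, hcgen⟩ := IsCyclic.exists_generator (α := commutator T)
    intro v hv
    rcases eq_or_ne v 1 with rfl | hv0
    · exact one_mem _
    have hv1 : v ∈ commutator T := by
      rw [← top_lowerCentralSeries_one]
      exact Subgroup.lowerCentralSeries_antitone _ (by norm_num) hv
    obtain ⟨k, hk⟩ := mem_zpowers_iff.mp (hcgen ⟨v, hv1⟩)
    have hk' : (c : T) ^ k = v := by simpa using congrArg Subtype.val hk
    by_cases hkp : (p : ℤ) ∣ k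
    · obtain ⟨k', rfl⟩ := hkp
      rw [← hk', mul_comm, zpow_mul, zpow_natCast]
      exact hpow _ (CfsgLib.commutator_le_frattini_pGroup hT (zpow_mem c.2 _))
    · -- then the third term would equal the second
      exfalso
      have hstab : commutator T ≤ (⊤ : Subgroup T).lowerCentralSeries 2 := by
        intro u hu
        obtain ⟨e, he⟩ := IsPGroup.iff_orderOf.mp hT c
        have hcc : (c : T) ∈ zpowers v := by
          obtain ⟨a', b', hab'⟩ : IsCoprime k ((p : ℤ) ^ e) :=
            (((Nat.prime_iff_prime_int.mp hp.out).coprime_iff_not_dvd.mpr hkp).symm).pow_right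
          refine ⟨a', ?_⟩
          show v ^ a' = (c : T)
          rw [← hk', ← zpow_mul, show k * a' = 1 - b' * (p : ℤ) ^ e by linarith, zpow_sub, zpow_one,
            orderOf_dvd_iff_zpow_eq_one.mp ?_, inv_one, mul_one]
          rw [he]
          exact ⟨b', by push_cast; ring⟩
        obtain ⟨i, hi⟩ := mem_zpowers_iff.mp (hcgen ⟨u, hu⟩)
        have hi' : (c : T) ^ i = u := by simpa using congrArg Subtype.val hi
        exact hi' ▸ zpow_mem (zpowers_le.mpr hv hcc) i
      haveI := hT.isNilpotent
      have hall : ∀ m, commutator T ≤ (⊤ : Subgroup T).lowerCentralSeries (m + 1) := by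
        intro m
        induction m with
        | zero => rw [top_lowerCentralSeries_one]
        | succ m ih =>
          refine hstab.trans ?_
          rw [Subgroup.lowerCentralSeries_succ, Subgroup.lowerCentralSeries_succ _ (m + 1), top_lowerCentralSeries_one]
          exact commutator_mono ih le_rfl
      have hbot := hall (Group.nilpotencyClass T)
      rw [Subgroup.lowerCentralSeries_eq_bot_iff_nilpotencyClass_le.mpr (Nat.le_succ _), le_bot_iff] at hbot
      have hc1 : (c : T) = 1 := by
        exact mem_bot.mp (hbot.le c.2)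
      exact hv0 (by rw [← hk', hc1, one_zpow])
  · rw [F.lcs_two]; exact bot_le
  · by_cases h5 : 5 ≤ n
    · refine F.lcs_two.trans (zpowers_le.mpr ?_)
      rw [show n - 3 = n - 4 + 1 by omega, pow_succ, pow_mul]
      refine hpow _ ?_
      rw [show n - 4 = n - 5 + 1 by omega, pow_succ, pow_mul]
      exact CfsgLib.pow_mem_frattini_pGroup hT _
    · have hn4 : n = 4 := by have := F.hn; omega
      subst hn4
      refine maxClass_lcs_le hp2 le_rfl hn ?_ hr W hW
      haveI := hT.isNilpotent
      have h1 := Cfsg.Agent.S3919.class_le 4 hn (by norm_num)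
      have h2 : ¬ Group.nilpotencyClass T ≤ 2 := fun h =>
        F.lcs_two_ne (Subgroup.lowerCentralSeries_eq_bot_iff_nilpotencyClass_le.mpr h)
      omega
  · by_cases h4 : 4 ≤ n
    · exact maxClass_lcs_le hp2 h4 hn hc hr W hW
    · haveI := hT.isNilpotent
      rw [Subgroup.lowerCentralSeries_eq_bot_iff_nilpotencyClass_le.mpr (show Group.nilpotencyClass T ≤ 2 by omega)]
      exact bot_le

end CfsgLib.IsoRankTwo
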