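import Mathlib
import Cfsg.Agent.Lib.IsolatedRankTwo.NoWreath
import Cfsg.Agent.S2792

/-!
Control of transfer by the Sylow normalizer in rank two, and the consequence that elements of a normal
Sylow subgroup lying in the derived group have no nontrivial fixed points on abelian quotients.
-/

set_option autoImplicit false

namespace CfsgLib.IsoRankTwo

open scoped commutatorElement
open Subgroup

universe u

variable {p : ℕ} [hp : Fact p.Prime]

/-- In a perfect group with a Sylow subgroup of rank at most two (`p` odd), the Sylow subgroup lies in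
the derived group of its normalizer. -/
theorem sylow_le_commutator_normalizer {S : Type u} [Group S] [Finite S] (hp2 : p ≠ 2)
    (hperf : commutator S = ⊤) (P : Sylow p S) (hr : Cfsg.PRankLE p 2 (P : Subgroup S)) :
    (P : Subgroup S) ≤ ⁅normalizer ((P : Subgroup S) : Set S), normalizer ((P : Subgroup S) : Set S)⁆ := by
  by_contra hne
  have hW : Cfsg.IsWeaklyClosed (P : Subgroup S) (P : Subgroup S) := ⟨le_rfl, fun g hg =>
    eq_of_le_of_card_ge hg (card_map_of_injective (MulEquiv.injective (MulAut.conj g))).ge⟩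
  have h : (P : Subgroup S) ⊓ commutator S ≠
      (P : Subgroup S) ⊓ ⁅normalizer ((P : Subgroup S) : Set S), normalizer ((P : Subgroup S) : Set S)⁆ := by
    rw [hperf, inf_top_eq]
    exact fun e => hne (e.le.trans inf_le_right)
  obtain ⟨x, hx, z, hz, W₀, hW₀, hv, hv'⟩ := Cfsg.Agent.S2792.result P _ hW h
  apply hv'
  set f : ↥(P : Subgroup S) → ↥(P : Subgroup S) := fun y => y⁻¹ * (⟨z, hz⟩ : ↥(P : Subgroup S))⁻¹ * y * ⟨z, hz⟩
    with hf
  have key : ∀ k, ((f^[k] ⟨x, hx⟩ : ↥(P : Subgroup S)) : S) = (fun y : S => y⁻¹ * z⁻¹ * y * z)^[k] x := by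
    intro k
    induction k with
    | zero => rfl
    | succ k ih =>
      rw [Function.iterate_succ_apply', Function.iterate_succ_apply', ← ih]
      rfl
  have hlcs : ∀ k, f^[k] ⟨x, hx⟩ ∈ (⊤ : Subgroup ↥(P : Subgroup S)).lowerCentralSeries k := by
    intro k
    induction k with
    | zero => exact mem_top _
    | succ k ih =>
      rw [Function.iterate_succ_apply', Subgroup.lowerCentralSeries_succ]
      generalize f^[k] ⟨x, hx⟩ = y at ih ⊢
      have := commutator_mem_commutator (inv_mem ih) (mem_top (⟨z, hz⟩ : ↥(P : Subgroup S))⁻¹)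
      rwa [commutatorElement_def, inv_inv, inv_inv] at this
  rw [← key]
  exact mem_map_of_mem _ (lcs_le_frattini hp2 P.2 hr W₀ hW₀ (hlcs (p - 1)))

section Fixed

variable {N : Type u} [Group N] [Finite N]

/-- If the normal Sylow subgroup `T` lies in the derived group, an element of `T` which is central in
`N` modulo `M ≥ T'` lies in `M`. -/
theorem fixed_mem (T M : Subgroup N) [T.Normal] [M.Normal] (hT : IsPGroup p T) (hidx : ¬ p ∣ T.index)
    (hcom : T ≤ commutator N) (hTM : ⁅T, T⁆ ≤ M) {t : N} (ht : t ∈ T)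
    (hfix : ∀ g : N, g * t * g⁻¹ * t⁻¹ ∈ M) : t ∈ M := by
  classical
  haveI : (M.subgroupOf T).Normal := normal_subgroupOf
  have hc : ∀ a b : T ⧸ M.subgroupOf T, a * b = b * a := by
    intro a b
    obtain ⟨a, rfl⟩ := QuotientGroup.mk'_surjective _ a
    obtain ⟨b, rfl⟩ := QuotientGroup.mk'_surjective _ b
    rw [← commutatorElement_eq_one_iff_mul_comm, ← map_commutatorElement]
    exact (QuotientGroup.eq_one_iff _).mpr (hTM (commutator_mem_commutator a.2 b.2))
  letI : CommGroup (T ⧸ M.subgroupOf T) :=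
    { (inferInstance : Group (T ⧸ M.subgroupOf T)) with mul_comm := hc }
  set ϕ : T →* T ⧸ M.subgroupOf T := QuotientGroup.mk' (M.subgroupOf T) with hϕ
  have hfixq : ∀ q : N ⧸ T, t • q = q := by
    intro q
    induction q using QuotientGroup.induction_on with
    | H g =>
      show ((t * g : N) : N ⧸ T) = g
      rw [QuotientGroup.eq, mul_inv_rev]
      have h1 := inv_mem ((inferInstance : T.Normal).conj_mem t ht g⁻¹)
      simpa [mul_assoc] using h1
  haveI : Fintype (Quotient (MulAction.orbitRel (zpowers t) (N ⧸ T))) := Fintype.ofFinite _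
  have htr : MonoidHom.transfer ϕ t = ϕ ⟨t, ht⟩ ^ T.index := by
    rw [MonoidHom.transfer_eq_prod_quotient_orbitRel_zpowers_quot]
    have hterm : ∀ (g : N) (m : ℕ) (h : g⁻¹ * t ^ m * g ∈ T), m = 1 → ϕ ⟨_, h⟩ = ϕ ⟨t, ht⟩ := by
      rintro g m h rfl
      rw [hϕ, QuotientGroup.mk'_apply, QuotientGroup.mk'_apply, QuotientGroup.eq, mem_subgroupOf]
      have h1 := hfix g⁻¹
      rw [inv_inv, ← inv_mem_iff] at h1
      simp only [Subgroup.coe_mul, InvMemClass.coe_inv, pow_one]
      have h2 := (inferInstance : M.Normal).conj_mem _ h1 t⁻¹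
      convert h2 using 1
      group
    rw [Finset.prod_congr rfl (fun q _ => hterm q.out.out _ _
      (Function.minimalPeriod_eq_one_iff_isFixedPt.mpr (hfixq q.out))), Finset.prod_const, Finset.card_univ]
    congr 1
    rw [index_eq_card, ← Nat.card_eq_fintype_card]
    refine (Nat.card_eq_of_bijective (fun q => Quotient.mk'' q) ⟨fun a b h => ?_, Quotient.mk''_surjective⟩).symm
    have h' := Quotient.eq''.mp h
    rw [MulAction.orbitRel_apply, MulAction.mem_orbit_iff] at h'
    obtain ⟨⟨w, k, rfl⟩, hk⟩ := h'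
    rw [← hk]
    have hle : zpowers t ≤ MulAction.stabilizer N b := zpowers_le.mpr (hfixq b)
    exact hle ⟨k, rfl⟩
  have h1 : ϕ ⟨t, ht⟩ ^ T.index = 1 := by
    rw [← htr]
    exact MonoidHom.mem_ker.mp (Abelianization.commutator_subset_ker _ (hcom ht))
  obtain ⟨k, hk⟩ := hT ⟨t, ht⟩
  have h2 : ϕ ⟨t, ht⟩ ^ p ^ k = 1 := by rw [← map_pow, hk, map_one]
  have h3 : ϕ ⟨t, ht⟩ = 1 := orderOf_eq_one_iff.mp (Nat.eq_one_of_dvd_coprimes
    ((hp.out.coprime_iff_not_dvd.mpr hidx).pow_left k) (orderOf_dvd_of_pow_eq_one h2)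
    (orderOf_dvd_of_pow_eq_one h1))
  exact mem_subgroupOf.mp ((QuotientGroup.eq_one_iff (⟨t, ht⟩ : T)).mp h3)

end Fixed

end CfsgLib.IsoRankTwo
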