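import Mathlib
import Cfsg.Agent.Lib.IsolatedRankTwo.Transfer
import Cfsg.Agent.Lib.IsolatedRankTwo.Negation
import Cfsg.Agent.Lib.IsolatedRankTwo.Layers
import Cfsg.Agent.Lib.CentralizeOmega
import Cfsg.Agent.S1447

/-!
A normal Sylow `p`-subgroup of rank at most two (`p` odd) lying in the derived group and meeting the
centre is extraspecial of order `p³` and exponent `p`, or a 3-group of maximal class of odd exponent.
-/

set_option autoImplicit false

namespace CfsgLib.IsoRankTwo

open scoped commutatorElement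
open Subgroup

universe u

variable {p : ℕ} [hp : Fact p.Prime] {N : Type u} [Group N] [Finite N]

omit hp in
theorem exp_of_cube (hp2 : p ≠ 2) [Fact p.Prime] {T : Type u} [Group T] [Finite T]
    (hcard : Nat.card T = p ^ 3) (hnab : ¬ ∀ a b : T, a * b = b * a) {S : Set T}
    (hS : closure S = ⊤) (h : ∀ a ∈ S, a ^ p = 1) : ∀ t : T, t ^ p = 1 := by
  obtain ⟨⟨-, hcc⟩, -, hcom⟩ := Cfsg.EssentialSmall.extraspecial_cube hcard hnab
  have hpp := (Fact.out : p.Prime)
  let K : Subgroup T :=
    { carrier := {t | t ^ p = 1}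
      one_mem' := one_pow p
      mul_mem' := fun {a b} ha hb => by
        show (a * b) ^ p = 1
        have hm : b * a * b⁻¹ * a⁻¹ ∈ center T := hcom ▸ commutator_mem_commutator (mem_top b) (mem_top a)
        set c := b * a * b⁻¹ * a⁻¹ with hc
        have hcp : c ^ p = 1 := by
          have h' : (⟨c, hm⟩ : center T) ^ Nat.card (center T) = 1 := pow_card_eq_one'
          rw [hcc] at h'
          simpa using congrArg Subtype.val h'
        rw [CfsgLib.mul_pow_central (c := c) (by rw [hc]; group) (mem_center_iff.mp hm a).symm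
          (mem_center_iff.mp hm b).symm p, ha, hb, one_mul, mul_one]
        obtain ⟨k, hk⟩ := hpp.eq_two_or_odd'.resolve_left hp2
        rw [show p * (p - 1) / 2 = p * k by
          rw [show p - 1 = 2 * k by omega, show p * (2 * k) = 2 * (p * k) by ring]
          exact Nat.mul_div_cancel_left _ (by norm_num), pow_mul, hcp, one_pow]
      inv_mem' := fun {a} ha => show a⁻¹ ^ p = 1 by rw [inv_pow, ha, inv_one] }
  intro t
  exact ((closure_le K).mpr h) (hS.symm ▸ mem_top t : t ∈ closure S)

/-- The map of a characteristic subgroup of the normal subgroup `T` is normal. -/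
theorem map_char_normal (T : Subgroup N) [hTn : T.Normal] (C : Subgroup T) [C.Characteristic] :
    (C.map T.subtype).Normal :=
  normalizer_eq_top_iff.mp (top_le_iff.mp ((normalizer_eq_top_iff.mpr hTn).ge.trans
    (CfsgLib.le_normalizer_map_characteristic (A := normalizer (T : Set N)) le_rfl C).1))

variable (T : Subgroup N) [hTn : T.Normal]

theorem not_metacyclic (hp2 : p ≠ 2) (hT : IsPGroup p T) (hidx : ¬ p ∣ T.index) (hcom : T ≤ commutator N)
    {x : N} (hxT : x ∈ T) (hx1 : x ≠ 1) (hxc : x ∈ center N) : ¬ Cfsg.IsMetacyclic T := by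
  intro hmeta
  obtain ⟨k, hk⟩ := IsPGroup.iff_card.mp hT
  have hcop : (Nat.card T).Coprime T.index := by
    rw [hk]; exact (hp.out.coprime_iff_not_dvd.mpr hidx).pow_left k
  obtain ⟨A, hA⟩ := exists_right_complement'_of_coprime hcop
  have hAc : (Nat.card A).Coprime p := by
    rw [← hA.symm.index_eq_card]; exact (hp.out.coprime_iff_not_dvd.mpr hidx).symm
  obtain ⟨-, hsup, hbot, h4⟩ := Cfsg.Agent.S1447.result p hp2 T A hT hmeta
    (le_top.trans (normalizer_eq_top_iff.mpr hTn).ge) hAc
  have hC : T ⊓ centralizer (A : Set N) ≤ ⁅T, T⁆ := by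
    intro t ht
    refine fixed_mem T ⁅T, T⁆ hT hidx hcom le_rfl ht.1 fun g => ?_
    obtain ⟨⟨⟨s, hs⟩, ⟨a, ha⟩⟩, rfl⟩ := hA.2 g
    have h1 : a * t * a⁻¹ = t := by rw [ht.2 a ha, mul_inv_cancel_right]
    have h2 : s * a * t * (s * a)⁻¹ * t⁻¹ = ⁅s, t⁆ := by
      rw [commutatorElement_def]
      calc s * a * t * (s * a)⁻¹ * t⁻¹ = s * (a * t * a⁻¹) * s⁻¹ * t⁻¹ := by group
        _ = s * t * s⁻¹ * t⁻¹ := by rw [h1]
    show s * a * t * (s * a)⁻¹ * t⁻¹ ∈ ⁅T, T⁆
    rw [h2]
    exact commutator_mem_commutator hs ht.1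
  have hxC : x ∈ T ⊓ centralizer (A : Set N) := ⟨hxT, fun a _ => mem_center_iff.mp hxc a⟩
  by_cases hab : IsMulCommutative T
  · have h0 : ⁅T, T⁆ = ⊥ := by
      rw [eq_bot_iff, commutator_le]
      intro a ha b hb
      rw [mem_bot, commutatorElement_eq_one_iff_mul_comm]
      exact congrArg Subtype.val (hab.is_comm.comm ⟨a, ha⟩ ⟨b, hb⟩)
    exact hx1 (mem_bot.mp (h0 ▸ hC hxC))
  by_cases hcen : A ≤ centralizer (T : Set N)
  · have hall : T ≤ ⁅T, T⁆ := fun t ht => hC ⟨ht, fun a ha => (hcen ha t ht).symm⟩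
    haveI := hT.isNilpotent
    have htop : commutator T = ⊤ := by
      apply map_injective T.subtype_injective
      rw [map_subtype_commutator, ← MonoidHom.range_eq_map, range_subtype]
      exact le_antisymm (commutator_le_self T) hall
    haveI : Nontrivial T := ⟨⟨x, hxT⟩, 1, fun e => hx1 (congrArg Subtype.val e)⟩
    exact (Group.IsSolvable.commutator_lt_top_of_nontrivial (G := T)).ne htop
  obtain ⟨-, -, -, -, hle⟩ := h4 hab hcen
  have hbad : x ∈ ⁅T, A⁆ ⊓ (T ⊓ centralizer (A : Set N)) := ⟨hle (hC hxC), hxC⟩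
  rw [hbot, mem_bot] at hbad
  exact hx1 hbad

theorem famTwo_small (hT : IsPGroup p T) (hidx : ¬ p ∣ T.index) (hcom : T ≤ commutator N)
    {x : N} (hxT : x ∈ T) (hxo : orderOf x = p) (hxc : x ∈ center N) {n : ℕ} {a b c : T}
    (F : FamTwo p n a b c) : n = 3 := by
  by_contra hne
  have hn : 4 ≤ n := by have := F.hn; omega
  have hZn : ((center T).map T.subtype).Normal := map_char_normal T _
  rw [F.center_eq, MonoidHom.map_zpowers] at hZn
  haveI := hZn
  set M := zpowers ((c : N) ^ p) with hM
  have hconj : ∀ g : N, ∃ k : ℤ, (c : N) ^ k = g * c * g⁻¹ := fun g =>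
    mem_zpowers_iff.mp (hZn.conj_mem _ (mem_zpowers _) g)
  haveI hMn : M.Normal := ⟨fun w hw g => by
    obtain ⟨j, rfl⟩ := hw
    obtain ⟨k, hk⟩ := hconj g
    refine ⟨k * j, ?_⟩
    show ((c : N) ^ p) ^ (k * j) = g * ((c : N) ^ p) ^ j * g⁻¹
    rw [← conj_zpow, ← conj_pow, ← hk, zpow_mul]
    congr 1
    rw [← zpow_natCast, ← zpow_natCast, ← zpow_mul, ← zpow_mul, mul_comm]⟩
  have hTM : ⁅T, T⁆ ≤ M := by
    rw [← map_subtype_commutator]
    refine (map_mono F.comm_le).trans ?_
    rw [MonoidHom.map_zpowers, zpowers_le, map_pow, show n - 3 = n - 4 + 1 by omega, pow_succ', pow_mul]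
    exact pow_mem (mem_zpowers _) _
  -- `x` is a power of `c`
  have hxZ : (⟨x, hxT⟩ : T) ∈ zpowers c := by
    rw [← F.center_eq, mem_center_iff]
    exact fun t => Subtype.ext (mem_center_iff.mp hxc t)
  obtain ⟨e, he⟩ := hxZ
  have he' : (c : N) ^ e = x := by simpa using congrArg Subtype.val he
  have hx1 : x ≠ 1 := fun h => hp.out.ne_one (by rw [← hxo, h, orderOf_one])
  have hcM : (c : N) ∈ M := by
    refine fixed_mem T M hT hidx hcom hTM c.2 fun g => ?_
    obtain ⟨k, hk⟩ := hconj g
    have hfix : g * x * g⁻¹ = x := by rw [mem_center_iff.mp hxc g, mul_inv_cancel_right]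
    have h1 : x ^ k = x := by
      calc x ^ k = ((c : N) ^ k) ^ e := by rw [← he', ← zpow_mul, ← zpow_mul, mul_comm]
        _ = x := by rw [hk, conj_zpow, he', hfix]
    have h2 : (p : ℤ) ∣ k - 1 := by
      rw [← hxo, orderOf_dvd_iff_zpow_eq_one, zpow_sub, h1, zpow_one, mul_inv_cancel]
    obtain ⟨j, hj⟩ := h2
    rw [← hk, ← zpow_sub_one, hj, zpow_mul, zpow_natCast]
    exact zpow_mem (mem_zpowers _) j
  have hd : orderOf (c : N) ∣ orderOf ((c : N) ^ p) := by
    obtain ⟨j, hj⟩ := mem_zpowers_iff.mp hcM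
    conv_lhs => rw [← hj]
    exact orderOf_dvd_of_mem_zpowers ⟨j, rfl⟩
  have h3 : ((c : N) ^ p) ^ p ^ (n - 3) = 1 := by
    have := congrArg Subtype.val F.hzp
    rw [SubmonoidClass.coe_pow, OneMemClass.coe_one] at this
    rw [← pow_mul, ← pow_succ', show n - 3 + 1 = n - 2 by omega, this]
  have h4 := hd.trans (orderOf_dvd_of_pow_eq_one h3)
  rw [Subgroup.orderOf_coe, F.orderOf_z, Nat.pow_dvd_pow_iff_le_right hp.out.one_lt] at h4
  omega

theorem FamThree.center_le {T : Type u} [Group T] [Finite T] {n s : ℕ} {a b c : T}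
    (F : FamThree p n s a b c) :
    center T ≤ closure ({b, c ^ p} : Set T) ∧ center T ≤ zpowers (c ^ p) ∧
      ∀ g, g * b = b * g → g ∈ closure ({b, c} : Set T) := by
  haveI hAn : (closure ({b, c} : Set T)).Normal := F.mid_normal
  have hAb : ∀ u ∈ closure ({b, c} : Set T), u * b = b * u := fun u hu => by
    have hle : closure ({b, c} : Set T) ≤ centralizer ({b} : Set T) := (closure_le _).mpr (by
      rintro v (rfl | rfl)
      · exact mem_centralizer_singleton_iff.mpr rfl
      · exact mem_centralizer_singleton_iff.mpr F.yz.symm)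
    exact mem_centralizer_singleton_iff.mp (hle hu)
  set w := c ^ p ^ (n - 3) with hw
  have hwc : ∀ g : T, Commute g w := fun g => mem_center_iff.mp F.w_center g
  have hba : b * a = a * b * w ^ s := by
    rw [mul_assoc, hw, ← pow_mul, mul_comm (p ^ (n - 3)) s, ← F.xy]; group
  have hwd : ∀ m : ℤ, w ^ m = 1 → (p : ℤ) ∣ m := fun m hm => by
    have := orderOf_dvd_iff_zpow_eq_one.mpr hm
    rwa [orderOf_eq_prime F.w_pow F.w_ne] at this
  have hsd : ¬ (p : ℤ) ∣ (s : ℤ) := fun h => F.hs (Int.natCast_dvd_natCast.mp h)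
  have hdec : ∀ g : T, ∃ i : ℤ, ∃ u ∈ closure ({b, c} : Set T), g = a ^ i * u := fun g => by
    have htop : g ∈ zpowers a ⊔ closure ({b, c} : Set T) := by
      refine (closure_le _).mpr ?_ (F.gen.symm ▸ mem_top g : g ∈ closure ({a, b, c} : Set T))
      rintro v (rfl | rfl | rfl)
      · exact mem_sup_left (mem_zpowers _)
      · exact mem_sup_right (subset_closure (by simp))
      · exact mem_sup_right (subset_closure (by simp))
    obtain ⟨v, ⟨i, rfl⟩, u, hu, h⟩ := mem_sup_of_normal_right.mp htop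
    exact ⟨i, u, hu, h.symm⟩
  have hout : ∀ g, g * b = b * g → g ∈ closure ({b, c} : Set T) := by
    intro g hg
    obtain ⟨i, u, hu, rfl⟩ := hdec g
    have hai : a ^ i * b = b * a ^ i := by
      have h1 : a ^ i * u * b = a ^ i * b * u := by rw [mul_assoc, hAb u hu, mul_assoc]
      rw [h1, ← mul_assoc] at hg
      exact mul_right_cancel hg
    have hs' : SemiconjBy b (a ^ i) ((a * w ^ s) ^ i) :=
      (show SemiconjBy b a (a * w ^ s) by
        show b * a = a * w ^ s * b
        rw [hba, mul_assoc, ((hwc b).pow_right s).eq, ← mul_assoc]).zpow_right i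
    rw [SemiconjBy, ((hwc a).pow_right s).mul_zpow, ← hai] at hs'
    have h2 := hwd (s * i) (by
      rw [zpow_mul, zpow_natCast]
      exact mul_eq_left.mp (mul_right_cancel hs').symm)
    have hi : (p : ℤ) ∣ i := (Int.Prime.dvd_mul' hp.out h2).resolve_left hsd
    obtain ⟨i', rfl⟩ := hi
    rwa [zpow_mul, zpow_natCast, F.hxp, one_zpow, one_mul]
  refine ⟨?_, ?_, hout⟩
  all_goals intro g hg
  all_goals
    have hgA := hout g (mem_center_iff.mp hg b).symm
    obtain ⟨j, k, rfl⟩ : ∃ j k : ℤ, b ^ j * c ^ k = g := by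
      have hc : ∀ i j : ℤ, Commute (b ^ i) (c ^ j) := fun i j => Commute.zpow_zpow (F.yz : Commute b c) i j
      clear hg
      induction hgA using closure_induction with
      | mem v hv =>
        rcases hv with rfl | rfl
        · exact ⟨1, 0, by simp⟩
        · exact ⟨0, 1, by simp⟩
      | one => exact ⟨0, 0, by simp⟩
      | mul v v' _ _ ha hb =>
        obtain ⟨i, j, rfl⟩ := ha
        obtain ⟨k, l, rfl⟩ := hb
        refine ⟨i + k, j + l, ?_⟩
        rw [zpow_add, zpow_add, mul_assoc, ← mul_assoc (b ^ k), (hc k j).eq]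
        group
      | inv v _ ha =>
        obtain ⟨i, j, rfl⟩ := ha
        exact ⟨-i, -j, by rw [mul_inv_rev, zpow_neg, zpow_neg, ((hc i j).inv_inv).eq]⟩
    -- conjugation by `a`
    have hbc : Commute b c := F.yz
    have h1 : a⁻¹ * (b ^ j * c ^ k) * a = (b * w ^ s) ^ j * (b * c) ^ k := by
      have e1 : a⁻¹ * b * a⁻¹⁻¹ = b * w ^ s := by
        rw [inv_inv, F.xy, hw, mul_comm s, pow_mul]
      have e2 : a⁻¹ * c * a⁻¹⁻¹ = b * c := by rw [inv_inv, F.xz]
      rw [← e1, ← e2, conj_zpow, conj_zpow]; group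
    rw [mul_assoc, ← mem_center_iff.mp hg a, inv_mul_cancel_left, ((hwc b).pow_right s).mul_zpow, hbc.mul_zpow,
      ← zpow_natCast w s, ← zpow_mul, mul_assoc] at h1
    have h2 : w ^ ((s : ℤ) * j) * b ^ k = 1 := by
      have := mul_left_cancel h1
      rw [← mul_assoc] at this
      exact mul_eq_right.mp this.symm
    have hk : (p : ℤ) ∣ k := by
      by_contra hk
      -- then `b` is a power of `c` and the group is too small
      obtain ⟨i1, i2, hi12⟩ := ((Nat.prime_iff_prime_int.mp hp.out).coprime_iff_not_dvd.mpr hk).symm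
      have hbk : b ^ k ∈ zpowers c := by
        rw [eq_inv_of_mul_eq_one_right h2]
        exact inv_mem (zpow_mem (pow_mem (mem_zpowers c) _) _)
      have hb : b ∈ zpowers c := by
        have hb1 : b = (b ^ k) ^ i1 := by
          rw [← zpow_mul, show k * i1 = 1 - i2 * (p : ℤ) by linarith, zpow_sub, zpow_one, mul_comm i2, zpow_mul,
            zpow_natCast, F.hyp, one_zpow, inv_one, mul_one]
        rw [hb1]; exact zpow_mem hbk i1
      have hA : closure ({b, c} : Set T) = zpowers c := le_antisymm ((closure_le _).mpr (by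
        rintro v (rfl | rfl)
        · exact hb
        · exact mem_zpowers _)) (zpowers_le.mpr (subset_closure (by simp)))
      have htop : zpowers a ⊔ closure ({b, c} : Set T) = ⊤ := by
        refine top_le_iff.mp (F.gen ▸ (closure_le _).mpr ?_)
        rintro v (rfl | rfl | rfl)
        · exact mem_sup_left (mem_zpowers _)
        · exact mem_sup_right (subset_closure (by simp))
        · exact mem_sup_right (subset_closure (by simp))
      have h3 := card_sup_le (zpowers a) (closure ({b, c} : Set T))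
      rw [htop, Nat.card_congr (topEquiv (G := T)).toEquiv, F.card, hA, Nat.card_zpowers c, F.orderOf_z] at h3
      have h4 : p ^ n ≤ p ^ 1 * p ^ (n - 2) := h3.trans (Nat.mul_le_mul_right _ (card_zpowers_le (by rw [pow_one]; exact F.hxp)))
      rw [← pow_add, Nat.pow_le_pow_iff_right hp.out.one_lt] at h4
      have := F.hn
      omega
  · obtain ⟨k', rfl⟩ := hk
    refine mul_mem (zpow_mem (subset_closure (by simp)) j) ?_
    rw [zpow_mul, zpow_natCast]
    exact zpow_mem (subset_closure (by simp)) k'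
  · obtain ⟨k', rfl⟩ := hk
    rw [zpow_mul b (p : ℤ) k', zpow_natCast b p, F.hyp, one_zpow, mul_one] at h2
    obtain ⟨j', rfl⟩ : (p : ℤ) ∣ j := (Int.Prime.dvd_mul' hp.out (hwd _ h2)).resolve_left hsd
    rw [zpow_mul b, zpow_natCast, F.hyp, one_zpow, one_mul, zpow_mul, zpow_natCast]
    exact zpow_mem (mem_zpowers _) k'

theorem famThree_false (hT : IsPGroup p T) (hidx : ¬ p ∣ T.index) (hcom : T ≤ commutator N)
    {x : N} (hxT : x ∈ T) (hxo : orderOf x = p) (hxc : x ∈ center N) {n s : ℕ} {a b c : T}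
    (F : FamThree p n s a b c) : False := by
  obtain ⟨hc1, hc2, hout⟩ := F.center_le
  set M0 : Subgroup T := closure ({b, c ^ p} : Set T) with hM0
  have hM0eq : M0 = commutator T ⊔ center T := by
    refine le_antisymm ((closure_le _).mpr ?_) (sup_le F.comm_le hc1)
    rintro v (rfl | rfl)
    · refine mem_sup_left ?_
      have h := commutator_mem_commutator (mem_top a⁻¹) (mem_top c)
      rwa [commutatorElement_def, inv_inv, F.xz, mul_inv_cancel_right] at h
    · exact mem_sup_right F.zp_center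
  have hMn : (M0.map T.subtype).Normal := by
    rw [hM0eq, Subgroup.map_sup]
    haveI : ((commutator T).map T.subtype).Normal := map_char_normal T _
    haveI : ((center T).map T.subtype).Normal := map_char_normal T _
    exact sup_normal _ _
  haveI := hMn
  set M := M0.map T.subtype with hM
  have hTM : ⁅T, T⁆ ≤ M := by
    rw [← map_subtype_commutator]
    exact map_mono F.comm_le
  have hxZ : (⟨x, hxT⟩ : T) ∈ zpowers (c ^ p) := hc2 (mem_center_iff.mpr fun t => Subtype.ext (mem_center_iff.mp hxc t))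
  obtain ⟨e, he⟩ := hxZ
  have hcM : (c : N) ∈ M := by
    refine fixed_mem T M hT hidx hcom hTM c.2 fun g => ?_
    set φ : MulAut T := MulAut.conjNormal g with hφ
    have hφv : ∀ t : T, (φ t : N) = g * t * g⁻¹ := fun t => MulAut.conjNormal_apply g t
    -- the image of `c` centralises `b`
    have hT1 : ∀ v ∈ commutator T, φ c * v = v * φ c := by
      intro v hv
      have hv' : φ.symm v ∈ M0 := F.comm_le (by
        have hch : (commutator T).map φ.symm.toMonoidHom = commutator T :=
          characteristic_iff_map_eq.mp inferInstance φ.symm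
        rw [← hch]
        exact mem_map_of_mem _ hv)
      have hcm : Commute c (φ.symm v) := by
        have hle : M0 ≤ centralizer ({c} : Set T) := (closure_le _).mpr (by
          rintro u (rfl | rfl)
          · exact mem_centralizer_singleton_iff.mpr F.yz
          · exact mem_centralizer_singleton_iff.mpr ((Commute.refl c).pow_left p).eq)
        exact (mem_centralizer_singleton_iff.mp (hle hv')).symm
      simpa using (hcm.map φ.toMonoidHom).eq
    have hb : b ∈ commutator T := by
      have h := commutator_mem_commutator (mem_top a⁻¹) (mem_top c)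
      rwa [commutatorElement_def, inv_inv, F.xz, mul_inv_cancel_right] at h
    have hφA := hout _ (hT1 b hb)
    obtain ⟨j, k, hjk⟩ : ∃ j k : ℤ, b ^ j * c ^ k = φ c := by
      have hc : ∀ i j : ℤ, Commute (b ^ i) (c ^ j) := fun i j => Commute.zpow_zpow (F.yz : Commute b c) i j
      generalize φ c = v at hφA
      induction hφA using closure_induction with
      | mem v hv =>
        rcases hv with rfl | rfl
        · exact ⟨1, 0, by simp⟩
        · exact ⟨0, 1, by simp⟩
      | one => exact ⟨0, 0, by simp⟩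
      | mul v v' _ _ ha hb =>
        obtain ⟨i, j, rfl⟩ := ha
        obtain ⟨k, l, rfl⟩ := hb
        refine ⟨i + k, j + l, ?_⟩
        rw [zpow_add, zpow_add, mul_assoc, ← mul_assoc (b ^ k), (hc k j).eq]
        group
      | inv v _ ha =>
        obtain ⟨i, j, rfl⟩ := ha
        exact ⟨-i, -j, by rw [mul_inv_rev, zpow_neg, zpow_neg, ((hc i j).inv_inv).eq]⟩
    -- `x` is fixed
    have hφx : φ ((c ^ p) ^ e) = (c ^ p) ^ e := by
      apply Subtype.ext
      rw [hφv, show ((c ^ p) ^ e : T) = ⟨x, hxT⟩ from he]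
      show g * x * g⁻¹ = x
      rw [mem_center_iff.mp hxc g, mul_inv_cancel_right]
    have hxe : ((c ^ p) ^ e) ^ k = (c ^ p) ^ e := by
      conv_rhs => rw [← hφx, map_zpow, map_pow, ← hjk,
        (Commute.zpow_zpow (F.yz : Commute b c) j k).mul_pow, ← zpow_natCast (b ^ j), ← zpow_mul, mul_comm j,
        zpow_mul, zpow_natCast, F.hyp, one_zpow, one_mul]
      rw [← zpow_natCast c p, ← zpow_natCast (c ^ k) p, ← zpow_mul, ← zpow_mul, ← zpow_mul, ← zpow_mul]
      congr 1
      ring
    have hord : orderOf ((c ^ p) ^ e) = p := by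
      rw [show ((c ^ p) ^ e : T) = ⟨x, hxT⟩ from he, Subgroup.orderOf_mk, hxo]
    have h2 : (p : ℤ) ∣ k - 1 := by
      rw [← hord, orderOf_dvd_iff_zpow_eq_one, zpow_sub, hxe, zpow_one, mul_inv_cancel]
    obtain ⟨i, hi⟩ := h2
    have h3 : φ c * c⁻¹ ∈ M0 := by
      rw [← hjk, mul_assoc, ← zpow_sub_one, hi, zpow_mul, zpow_natCast]
      exact mul_mem (zpow_mem (subset_closure (by simp)) j) (zpow_mem (subset_closure (by simp)) i)
    have h4 := mem_map_of_mem T.subtype h3
    rw [map_mul, map_inv] at h4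
    rw [coe_subtype, hφv] at h4
    exact h4
  -- so the group would be too small
  have hcM0 : c ∈ M0 := (mem_map_iff_mem T.subtype_injective).mp hcM
  haveI : (zpowers (c ^ p)).Normal := ⟨fun w hw g => by
    have hwc : w ∈ center T := zpowers_le.mpr F.zp_center hw
    rwa [mem_center_iff.mp hwc g, mul_inv_cancel_right]⟩
  haveI hM0n : M0.Normal := F.sub_normal
  have hM0c : Nat.card M0 ≤ p ^ 1 * p ^ (n - 3) := by
    have h1 : M0 ≤ zpowers b ⊔ zpowers (c ^ p) := (closure_le _).mpr (by
      rintro v (rfl | rfl)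
      · exact mem_sup_left (mem_zpowers _)
      · exact mem_sup_right (mem_zpowers _))
    refine (card_le_of_le h1).trans ((card_sup_le _ _).trans (Nat.mul_le_mul
      (card_zpowers_le (by rw [pow_one]; exact F.hyp)) (card_zpowers_le ?_)))
    rw [← pow_mul, ← pow_succ', show n - 3 + 1 = n - 2 by have := F.hn; omega, F.hzp]
  have htop : zpowers a ⊔ M0 = ⊤ := by
    refine top_le_iff.mp (F.gen ▸ (closure_le _).mpr ?_)
    rintro v (rfl | rfl | rfl)
    · exact mem_sup_left (mem_zpowers _)
    · exact mem_sup_right (subset_closure (by simp))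
    · exact mem_sup_right hcM0
  have h3 := card_sup_le (zpowers a) M0
  rw [htop, Nat.card_congr (topEquiv (G := T)).toEquiv, F.card] at h3
  have h4 := h3.trans (Nat.mul_le_mul (card_zpowers_le (k := 1) (by rw [pow_one]; exact F.hxp)) hM0c)
  rw [← pow_add, ← pow_add, Nat.pow_le_pow_iff_right hp.out.one_lt] at h4
  have := F.hn
  omega

theorem maxClass_odd (hT : IsPGroup p T) (hidx : ¬ p ∣ T.index) (hcom : T ≤ commutator N)
    {x : N} (hxT : x ∈ T) (hxo : orderOf x = p) (hxc : x ∈ center N) (h3 : p = 3) {n : ℕ} (hn : 4 ≤ n)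
    (hcard : Nat.card T = p ^ n) (hcl : Group.nilpotencyClass T = n - 1) : Odd n := by
  subst h3
  haveI hMn : ((commutator T).map T.subtype).Normal := map_char_normal T _
  set M := (commutator T).map T.subtype with hM
  have hTM : ⁅T, T⁆ ≤ M := (map_subtype_commutator T).ge
  set q := QuotientGroup.mk' M with hq
  set V := T.map q with hV
  haveI : V.Normal := hTn.map q (QuotientGroup.mk'_surjective M)
  have hVc : ∀ a b : V, a * b = b * a := by
    rintro ⟨_, a, ha, rfl⟩ ⟨_, b, hb, rfl⟩
    refine Subtype.ext ?_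
    show q a * q b = q b * q a
    rw [← commutatorElement_eq_one_iff_mul_comm, ← map_commutatorElement]
    exact (QuotientGroup.eq_one_iff _).mpr (hTM (commutator_mem_commutator ha hb))
  letI : CommGroup V := { (inferInstance : Group V) with mul_comm := hVc }
  have hMT : M ≤ T := map_subtype_le _
  have hcV : Nat.card V = 9 := by
    set f : T →* N ⧸ M := q.comp T.subtype with hf
    have hrange : f.range = V := by rw [hf, MonoidHom.range_comp, range_subtype, hV]
    have hker : f.ker = commutator T := by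
      ext t
      rw [MonoidHom.mem_ker, hf, MonoidHom.comp_apply, hq, QuotientGroup.mk'_apply, QuotientGroup.eq_one_iff, hM]
      exact mem_map_iff_mem T.subtype_injective
    rw [← hrange, ← index_ker, hker, CfsgLib.MaximalClass.index_commutator (by omega) hcard hcl]
    norm_num
  have hVexp : ∀ v : V, v ^ 3 = 1 := by
    rintro ⟨_, t, ht, rfl⟩
    refine Subtype.ext ?_
    rw [SubmonoidClass.coe_pow, OneMemClass.coe_one, ← map_pow]
    exact (QuotientGroup.eq_one_iff _).mpr
      ⟨(⟨t, ht⟩ : T) ^ 3, CfsgLib.MaximalClass.pow_mem_commutator (by omega) hcard hcl _, rfl⟩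
  set act : N →* MulAut V := (MulAut.conjNormal (H := V)).comp q with hact
  have hactv : ∀ (g : N) (v : V), ((act g v : V) : N ⧸ M) = q g * v * (q g)⁻¹ := fun g v =>
    MulAut.conjNormal_apply (q g) v
  have hTker : T ≤ act.ker := fun t ht => by
    rw [MonoidHom.mem_ker]
    refine MulEquiv.ext fun v => Subtype.ext ?_
    rw [hactv, MulAut.one_apply]
    have := congrArg Subtype.val (hVc ⟨q t, ⟨t, ht, rfl⟩⟩ v)
    rw [Subgroup.coe_mul, Subgroup.coe_mul] at this
    rw [this, mul_inv_cancel_right]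
  obtain ⟨h, ⟨d, rfl⟩, hneg⟩ := exists_inversion hcV hVexp act.range
    (by
      rw [← index_ker]
      exact Nat.Coprime.coprime_dvd_left (index_dvd_of_le hTker)
        (hp.out.coprime_iff_not_dvd.mpr hidx).symm)
    (by
      rintro ⟨_, t, ht, rfl⟩ hfix
      refine Subtype.ext ?_
      show q t = 1
      refine (QuotientGroup.eq_one_iff _).mpr (fixed_mem T M hT hidx hcom hTM ht fun g => ?_)
      have h := congrArg Subtype.val (hfix (act g) ⟨g, rfl⟩)
      rw [hactv] at h
      refine (QuotientGroup.eq_one_iff _).mp ?_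
      show q (g * t * g⁻¹ * t⁻¹) = 1
      rw [map_mul, map_mul, map_mul, map_inv, map_inv]
      change q g * q t * (q g)⁻¹ = q t at h
      rw [h, mul_inv_cancel])
  set φ : MulAut T := MulAut.conjNormal d with hφ
  have hφ1 : ∀ t, φ t * t ∈ (⊤ : Subgroup T).lowerCentralSeries 1 := by
    intro t
    rw [top_lowerCentralSeries_one, ← mem_map_iff_mem T.subtype_injective, ← hM, map_mul,
      ← QuotientGroup.eq_one_iff, ← QuotientGroup.mk'_apply, ← hq, map_mul]
    have h := congrArg Subtype.val (hneg ⟨q t, ⟨t, t.2, rfl⟩⟩)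
    rw [hactv] at h
    simp only [coe_subtype, hφ, MulAut.conjNormal_apply, map_mul, map_inv]
    change q d * q t * (q d)⁻¹ = (q t)⁻¹ at h
    rw [h, inv_mul_cancel]
  have hx2 : (⟨x, hxT⟩ : T) ∈ (⊤ : Subgroup T).lowerCentralSeries (n - 2) :=
    center_le_lcs (by omega) hcard hcl (mem_center_iff.mpr fun t => Subtype.ext (mem_center_iff.mp hxc t))
  have h := lcs_sign φ hφ1 (n - 2) _ hx2
  haveI := hT.isNilpotent
  rw [Subgroup.lowerCentralSeries_eq_bot_iff_nilpotencyClass_le.mpr (show Group.nilpotencyClass T ≤ n - 2 + 1 by omega),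
    mem_bot] at h
  have hfx : φ ⟨x, hxT⟩ = ⟨x, hxT⟩ := Subtype.ext (by
    rw [hφ, MulAut.conjNormal_apply]
    show d * x * d⁻¹ = x
    rw [mem_center_iff.mp hxc d, mul_inv_cancel_right])
  rw [hfx] at h
  by_contra hev
  rw [Nat.not_odd_iff_even] at hev
  rw [Odd.neg_one_pow (show Odd (n - 2 + 1) by obtain ⟨k, hk⟩ := hev; exact ⟨k - 1, by omega⟩), neg_neg, zpow_one] at h
  have h2 : x ^ 2 = 1 := by
    rw [pow_two]; simpa using congrArg Subtype.val h
  have := orderOf_dvd_of_pow_eq_one h2
  rw [hxo] at this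
  norm_num at this

theorem shape (hp2 : p ≠ 2) (hT : IsPGroup p T) (hidx : ¬ p ∣ T.index) (hcom : T ≤ commutator N)
    (hr : Cfsg.PRankLE p 2 T) {x : N} (hxT : x ∈ T) (hxo : orderOf x = p) (hxc : x ∈ center N) :
    (Cfsg.IsExtraspecial p T ∧ Nat.card T = p ^ 3 ∧ ∀ t : T, t ^ p = 1) ∨
    (p = 3 ∧ ∃ k : ℕ, 2 ≤ k ∧ Nat.card T = 3 ^ (2 * k + 1) ∧ ∃ _ : Group.IsNilpotent T,
      Group.nilpotencyClass T = 2 * k) := by
  obtain ⟨n, hn⟩ := IsPGroup.iff_card.mp hT
  have hx1 : x ≠ 1 := fun h => hp.out.ne_one (by rw [← hxo, h, orderOf_one])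
  have hnm := not_metacyclic T hp2 hT hidx hcom hxT hx1 hxc
  have hnab : ¬ ∀ a b : T, a * b = b * a := by
    intro hab
    have h0 : ⁅T, T⁆ = ⊥ := by
      rw [eq_bot_iff, commutator_le]
      intro a ha b hb
      rw [mem_bot, commutatorElement_eq_one_iff_mul_comm]
      exact congrArg Subtype.val (hab ⟨a, ha⟩ ⟨b, hb⟩)
    have h := fixed_mem T ⊥ hT hidx hcom h0.le hxT fun g => by
      rw [mem_center_iff.mp hxc g, mul_inv_cancel_right, mul_inv_cancel]
      exact one_mem _
    exact hx1 (mem_bot.mp h)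
  rcases cases_rankTwo hp2 hn hr with h | ⟨a, b, c, F⟩ | ⟨s, a, b, c, F⟩ | ⟨h3, hn2, hcl⟩
  · exact absurd h hnm
  · have h3 : n = 3 := famTwo_small T hT hidx hcom hxT hxo hxc F
    subst h3
    refine Or.inl ⟨(Cfsg.EssentialSmall.extraspecial_cube hn hnab).1, hn, exp_of_cube hp2 hn hnab F.gen ?_⟩
    rintro v (rfl | rfl | rfl)
    · exact F.hxp
    · exact F.hyp
    · simpa using F.hzp
  · exact (famThree_false T hT hidx hcom hxT hxo hxc F).elim
  · rcases Nat.lt_or_ge n 4 with hlt | h4
    · refine Or.inl ?_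
      obtain rfl | rfl : n = 2 ∨ n = 3 := by omega
      · exact absurd (fun a b => IsPGroup.commutative_of_card_eq_prime_sq hn a b) hnab
      refine ⟨(Cfsg.EssentialSmall.extraspecial_cube hn hnab).1, hn, fun t => ?_⟩
      by_contra ht
      -- an element of order `p²` makes the group metacyclic
      obtain ⟨j, hj, hjo⟩ := (Nat.dvd_prime_pow hp.out).mp (hn ▸ orderOf_dvd_natCard t)
      have hj3 : j ≠ 3 := fun h => by
        haveI : IsCyclic T := isCyclic_of_orderOf_eq_card t (by rw [hjo, hn, h])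
        obtain ⟨g, hg⟩ := IsCyclic.exists_generator (α := T)
        exact hnab fun a b => by
          obtain ⟨i, rfl⟩ := hg a
          obtain ⟨j, rfl⟩ := hg b
          exact ((Commute.refl g).zpow_zpow i j).eq
      have hj2 : j = 2 := by
        by_contra h2
        exact ht (orderOf_dvd_iff_pow_eq_one.mp (hjo ▸ (pow_dvd_pow p (show j ≤ 1 by omega)).trans (dvd_of_eq (pow_one p))))
      have hidx' : (zpowers t).index = p := by
        have h := (zpowers t).card_mul_index
        rw [Nat.card_zpowers, hjo, hj2, hn, pow_succ] at h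
        exact Nat.eq_of_mul_eq_mul_left (pow_pos hp.out.pos 2) h
      have hco : IsCoatom (zpowers t) := CfsgLib.YoshidaTransfer.isCoatom_of_index_prime hp.out hidx'
      haveI := (CfsgLib.index_coatom_pGroup (IsPGroup.of_card hn) hco).1
      exact hnm ⟨zpowers t, inferInstance, inferInstance,
        isCyclic_of_prime_card (p := p) (by rw [← index_eq_card, hidx'])⟩
    · refine Or.inr ⟨h3, ?_⟩
      obtain ⟨k, rfl⟩ := maxClass_odd T hT hidx hcom hxT hxo hxc h3 h4 hn hcl
      exact ⟨k, by omega, h3 ▸ hn, hT.isNilpotent, by omega⟩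

end CfsgLib.IsoRankTwo
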